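import Cfsg.Agent.Lib.Balance.Connected
import Cfsg.Agent.Lib.Balance.Locals
import Cfsg.Agent.Lib.Balance.LBalance
import Cfsg.Agent.Lib.Transfer.PResidual
import Cfsg.Agent.Lib.Fusion.Thompson
import Cfsg.Agent.Lib.PGroups.Omega
import Cfsg.Agent.Lib.Involutions.StronglyEmbedded
import Cfsg.Agent.Lib.SylowInter.Basic
import Cfsg.Prelude.Def_PLocal
import Cfsg.Prelude.Def_Involutions
import Cfsg.Prelude.Def_CaseTheorems

/-!
# Solvable involution centralizers with 2-closed central centralizers: basic facts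

Owner: helper2. Namespace `Cfsg.Agent.Lib.SolvCent`.
-/

set_option autoImplicit false
set_option linter.style.haveILetI false

open Cfsg

namespace Cfsg.Agent.Lib.SolvCent

variable {G : Type*} [Group G]

/-- `Ω₁(Z(S))`, in the form used by the statement. -/
def zc (S : Subgroup G) : Subgroup G :=
  omegaOne 2 (S ⊓ Subgroup.centralizer (S : Set G))

/-- The standing hypotheses. -/
structure Hyp (G : Type*) [Group G] : Prop where
  solv : ∀ t : G, orderOf t = 2 → Group.IsSolvable ↥(Subgroup.centralizer ({t} : Set G))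
  cz : ∀ S : Sylow 2 G, Subgroup.centralizer (zc (S : Subgroup G) : Set G) ≤
    Subgroup.normalizer ((S : Subgroup G) : Set G)
  core : pPrimeCore 2 G = ⊥
  core2 : pCore 2 G = ⊥
  even : Even (Nat.card G)

theorem mem_cent_iff {x u : G} :
    x ∈ Subgroup.centralizer ({u} : Set G) ↔ x * u = u * x :=
  Subgroup.mem_centralizer_singleton_iff

theorem mem_zc {S : Subgroup G} {x : G} :
    x ∈ zc S ↔ x ∈ S ∧ (∀ s ∈ S, s * x = x * s) ∧ x ^ 2 = 1 := by
  have hc : IsMulCommutative ↥(S ⊓ Subgroup.centralizer (S : Set G)) :=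
    ⟨⟨fun a b => Subtype.ext (Subgroup.mem_centralizer_iff.1 b.2.2 a a.2.1)⟩⟩
  rw [zc, PGroups.mem_omegaOne_iff_of_comm hc, Subgroup.mem_inf, Subgroup.mem_centralizer_iff,
    and_assoc]
  rfl

theorem zc_le (S : Subgroup G) : zc S ≤ S := fun _ h => (mem_zc.1 h).1

theorem zc_comm {S : Subgroup G} {z s : G} (hz : z ∈ zc S) (hs : s ∈ S) : s * z = z * s :=
  (mem_zc.1 hz).2.1 s hs

theorem elemAb_zc (S : Subgroup G) : IsElementaryAbelian 2 (zc S) :=
  PGroups.elemAb_mk (fun _ ha _ hb => zc_comm hb (zc_le _ ha)) (fun _ ha => (mem_zc.1 ha).2.2)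

theorem zc_map (S : Subgroup G) (g : G) :
    zc (S.map (MulAut.conj g).toMonoidHom) = (zc S).map (MulAut.conj g).toMonoidHom := by
  ext x
  simp only [mem_zc, Subgroup.mem_map, MulEquiv.coe_toMonoidHom, MulAut.conj_apply]
  constructor
  · rintro ⟨⟨y, hy, rfl⟩, hc, h2⟩
    refine ⟨y, ⟨hy, fun s hs => ?_, ?_⟩, rfl⟩
    · have := hc _ ⟨s, hs, rfl⟩
      apply (MulAut.conj g).injective
      simp only [map_mul, MulAut.conj_apply]
      exact this
    · apply (MulAut.conj g).injective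
      rw [map_pow, map_one, MulAut.conj_apply]; exact h2
  · rintro ⟨y, ⟨hy, hc, h2⟩, rfl⟩
    refine ⟨⟨y, hy, rfl⟩, ?_, ?_⟩
    · rintro _ ⟨s, hs, rfl⟩
      have := congrArg (MulAut.conj g) (hc s hs)
      simpa only [map_mul, MulAut.conj_apply] using this
    · rw [conj_pow, h2, mul_one, mul_inv_cancel]

/-- All Sylow subgroups are conjugate, in `map` form. -/
theorem exists_map_eq [Finite G] (P Q : Sylow 2 G) :
    ∃ g : G, (P : Subgroup G).map (MulAut.conj g).toMonoidHom = (Q : Subgroup G) := by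
  obtain ⟨g, hg⟩ := MulAction.exists_smul_eq G P Q
  exact ⟨g, by rw [← hg]; rfl⟩

/-- The conjugate of a Sylow subgroup, as a Sylow subgroup. -/
theorem exists_sylow_map [Finite G] (P : Sylow 2 G) (g : G) :
    ∃ Q : Sylow 2 G, (Q : Subgroup G) = (P : Subgroup G).map (MulAut.conj g).toMonoidHom :=
  ⟨g • P, rfl⟩

theorem card_zc_eq [Finite G] (P Q : Sylow 2 G) :
    Nat.card ↥(zc (P : Subgroup G)) = Nat.card ↥(zc (Q : Subgroup G)) := by
  obtain ⟨g, hg⟩ := exists_map_eq P Q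
  rw [← hg, zc_map, Subgroup.card_map_of_injective (MulAut.conj g).injective]

/-- A `2`-subgroup normalizing a Sylow subgroup lies in it. -/
theorem le_of_le_normalizer [Finite G] (P : Sylow 2 G) {Q : Subgroup G} (hQ : IsPGroup 2 ↥Q)
    (h : Q ≤ Subgroup.normalizer ((P : Subgroup G) : Set G)) : Q ≤ (P : Subgroup G) := by
  have : Q ⊓ Subgroup.normalizer ((P : Subgroup G) : Set G) = Q ⊓ (P : Subgroup G) :=
    hQ.inf_normalizer_sylow P
  rw [inf_eq_left.2 h] at this
  exact inf_eq_left.1 this.symm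

theorem isPGroup_zpowers_invol {t : G} (ht : t ^ 2 = 1) : IsPGroup 2 ↥(Subgroup.zpowers t) :=
  PGroups.elemAb_isPGroup (PGroups.elemAb_zpowers ht)

/-- A nontrivial subgroup of a `2`-group `S` normalized by `S` meets `Ω₁(Z(S))`. -/
theorem exists_mem_zc [Finite G] {S N : Subgroup G} (hS : IsPGroup 2 ↥S) (hN : N ≤ S)
    (hn : S ≤ Subgroup.normalizer (N : Set G)) (hne : N ≠ ⊥) :
    ∃ z ∈ zc S, z ∈ N ∧ z ≠ 1 := by
  haveI : Fact (Nat.Prime 2) := ⟨Nat.prime_two⟩
  haveI : (N.subgroupOf S).Normal := Subgroup.normal_subgroupOf_of_le_normalizer hn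
  have hne' : N.subgroupOf S ≠ ⊥ := fun h => hne (by
    rw [Subgroup.subgroupOf_eq_bot, disjoint_iff, inf_eq_left.2 hN] at h; exact h)
  have h1 := PGroups.normal_inf_center_ne_bot hS _ hne'
  obtain ⟨x, hx, hx1⟩ := (Subgroup.bot_or_exists_ne_one _).resolve_left h1
  obtain ⟨k, hk⟩ := IsPGroup.iff_orderOf.1 hS x
  obtain ⟨m, rfl⟩ : ∃ m, k = m + 1 := by
    rcases k with _ | m
    · exact absurd (orderOf_eq_one_iff.1 (by simpa using hk)) hx1
    · exact ⟨m, rfl⟩
  refine ⟨((x ^ 2 ^ m : ↥S) : G), mem_zc.2 ⟨(x ^ 2 ^ m).2, fun s hs => ?_, ?_⟩,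
    Subgroup.mem_subgroupOf.1 ((N.subgroupOf S).pow_mem hx.1 _), fun h => ?_⟩
  · exact congrArg Subtype.val
      (Subgroup.mem_center_iff.1 (Subgroup.pow_mem _ hx.2 (2 ^ m)) ⟨s, hs⟩)
  · rw [← Subgroup.coe_pow, ← pow_mul, ← pow_succ, ← hk, pow_orderOf_eq_one]; rfl
  · refine pow_ne_one_of_lt_orderOf (by positivity) ?_ (Subtype.ext h)
    rw [hk, pow_succ]; exact lt_mul_of_one_lt_right (by positivity) (by norm_num)

/-! ### Cores -/

/-- `O(C_G(a))`. -/
abbrev cr (a : G) : Subgroup G := centralizerPPrimeCore 2 a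

theorem cr_odd [Finite G] (a : G) : ¬ 2 ∣ Nat.card ↥(cr a) :=
  haveI : Fact (Nat.Prime 2) := ⟨Nat.prime_two⟩
  Balance.not_dvd_card_centralizerPPrimeCore a

theorem cr_le (a : G) : cr a ≤ Subgroup.centralizer ({a} : Set G) :=
  Balance.centralizerPPrimeCore_le a

theorem cr_conj (g a : G) :
    cr (g * a * g⁻¹) = (cr a).map (MulAut.conj g).toMonoidHom :=
  Balance.centralizerPPrimeCore_conj g a

theorem card_cr_conj (g a : G) : Nat.card ↥(cr (g * a * g⁻¹)) = Nat.card ↥(cr a) := by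
  rw [cr_conj, Subgroup.card_map_of_injective (MulAut.conj g).injective]

theorem cr_normalized {a g : G} (h : g * a = a * g) :
    g ∈ Subgroup.normalizer (cr a : Set G) :=
  Balance.centralizer_le_normalizer_centralizerPPrimeCore a (mem_cent_iff.2 h)

theorem cr_balance [Finite G] (hyp : Hyp G) {a b : G} (ha : orderOf a = 2) (hb : orderOf b = 2)
    (hab : a * b = b * a) : cr a ⊓ Subgroup.centralizer ({b} : Set G) ≤ cr b := by
  haveI : Fact (Nat.Prime 2) := ⟨Nat.prime_two⟩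
  haveI := hyp.solv b hb
  exact Balance.balance_of_pLayer_eq_bot ha hab Balance.pLayer_eq_bot_of_isSolvable

theorem cr_isSolvable [Finite G] (hyp : Hyp G) {a : G} (ha : orderOf a = 2) :
    Group.IsSolvable ↥(cr a) := by
  haveI := hyp.solv a ha
  exact Group.isSolvable_of_isSolvable_injective (f := Subgroup.inclusion (cr_le a))
    (Subgroup.inclusion_injective _)

/-- An odd subgroup normalized by a `2`-group `S` and normalizing it centralizes it. -/
theorem le_centralizer_of_odd [Finite G] {S D : Subgroup G} (hS : IsPGroup 2 ↥S)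
    (hD : ¬ 2 ∣ Nat.card ↥D) (hSD : S ≤ Subgroup.normalizer (D : Set G))
    (hDS : D ≤ Subgroup.normalizer (S : Set G)) : D ≤ Subgroup.centralizer (S : Set G) := by
  haveI : Fact (Nat.Prime 2) := ⟨Nat.prime_two⟩
  have hbot : D ⊓ S = ⊥ := (Transfer.PResidual.disjoint_of_not_dvd hD hS).eq_bot
  intro d hd
  refine Subgroup.mem_centralizer_iff.2 fun s hs => ?_
  have h1 : d * s * d⁻¹ * s⁻¹ ∈ D ⊓ S := by
    refine Subgroup.mem_inf.2 ⟨?_, S.mul_mem ((Subgroup.mem_normalizer_iff.1 (hDS hd) s).1 hs)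
      (S.inv_mem hs)⟩
    rw [show d * s * d⁻¹ * s⁻¹ = d * (s * d⁻¹ * s⁻¹) by group]
    exact D.mul_mem hd ((Subgroup.mem_normalizer_iff.1 (hSD hs) _).1 (D.inv_mem hd))
  rw [hbot, Subgroup.mem_bot] at h1
  calc s * d = 1 * (s * d) := (one_mul _).symm
    _ = d * s * d⁻¹ * s⁻¹ * (s * d) := by rw [h1]
    _ = d * s := by group

/-- The core of the centralizer of a central involution generating `Ω₁(Z(S))` centralizes `S`. -/
theorem cr_le_centralizer [Finite G] (hyp : Hyp G) (S : Sylow 2 G) {z : G}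
    (hz : z ∈ zc (S : Subgroup G))
    (hgen : zc (S : Subgroup G) ≤ Subgroup.zpowers z) :
    cr z ≤ Subgroup.centralizer ((S : Subgroup G) : Set G) := by
  refine le_centralizer_of_odd S.2 (cr_odd z)
    (fun s hs => cr_normalized (zc_comm hz hs)) (fun x hx => hyp.cz S ?_)
  refine Subgroup.mem_centralizer_iff.2 fun w hw => ?_
  obtain ⟨k, rfl⟩ := Subgroup.mem_zpowers_iff.1 (hgen hw)
  exact ((show Commute z x from (mem_cent_iff.1 (cr_le z hx)).symm).zpow_left k).eq

/-! ### The residual -/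

theorem hyp_resid_ne_bot [Finite G] (hyp : Hyp G) : pResidual 2 G ≠ ⊥ := by
  haveI : Fact (Nat.Prime 2) := ⟨Nat.prime_two⟩
  intro h
  have h1 : pCore 2 G = ⊤ := Cores.pCore_eq_top_iff.2 (Transfer.PResidual.pResidual_eq_bot_iff.1 h)
  rw [hyp.core2] at h1
  have h2 : Nat.card G = 1 := by
    rw [← Subgroup.card_top, ← h1, Subgroup.card_bot]
  have := hyp.even
  rw [h2] at this
  exact Nat.not_even_one this

theorem inf_resid_ne_bot [Finite G] (hyp : Hyp G) (S : Sylow 2 G) :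
    (S : Subgroup G) ⊓ pResidual 2 G ≠ ⊥ := by
  haveI : Fact (Nat.Prime 2) := ⟨Nat.prime_two⟩
  intro h
  rw [inf_comm, ← Transfer.PResidual.not_dvd_card_iff_inf_sylow] at h
  exact hyp_resid_ne_bot hyp (le_bot_iff.1 (hyp.core ▸ Cores.le_pPrimeCore_of_not_dvd h))

theorem exists_zc_resid [Finite G] (hyp : Hyp G) (S : Sylow 2 G) :
    ∃ z ∈ zc (S : Subgroup G), z ∈ pResidual 2 G ∧ z ≠ 1 := by
  obtain ⟨z, hz, hz', hz1⟩ := exists_mem_zc S.2 (inf_le_left (b := pResidual 2 G))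
    (fun s hs => Subgroup.mem_normalizer_iff.2 fun x => by
      have h1 := Subgroup.mem_normalizer_iff.1
        (Subgroup.le_normalizer (H := (S : Subgroup G)) hs) x
      have h2 := Subgroup.mem_normalizer_iff.1
        (Subgroup.le_normalizer_of_normal (H := pResidual 2 G) (K := ⊤) trivial : s ∈ _) x
      rw [Subgroup.mem_inf, Subgroup.mem_inf, ← h1, ← h2])
    (inf_resid_ne_bot hyp S)
  exact ⟨z, hz, hz'.2, hz1⟩

/-- The Sylow subgroup `R = S ∩ H` of `H`. -/
theorem exists_sylow_resid [Finite G] (S : Sylow 2 G) :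
    ∃ R : Sylow 2 ↥(pResidual 2 G),
      (R : Subgroup ↥(pResidual 2 G)) = (S : Subgroup G).subgroupOf (pResidual 2 G) := by
  haveI : Fact (Nat.Prime 2) := ⟨Nat.prime_two⟩
  haveI : (pResidual 2 G).Normal := Transfer.PResidual.pResidual_normal
  exact Balance.exists_sylow_inf_normal S (pResidual 2 G)

theorem no_index_two [Finite G] (N : Subgroup ↥(pResidual 2 G)) : N.index ≠ 2 := by
  haveI : Fact (Nat.Prime 2) := ⟨Nat.prime_two⟩
  intro h
  haveI : N.Normal := Subgroup.normal_of_index_eq_two h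
  have h2 : IsPGroup 2 (↥(pResidual 2 G) ⧸ N) := IsPGroup.of_card (n := 1) (by rw [pow_one]; exact h)
  have h3 := Transfer.PResidual.pResidual_le_of_isPGroup_quotient N h2
  rw [Transfer.PResidual.pResidual_pResidual, top_le_iff] at h3
  rw [h3, Subgroup.index_top] at h
  exact absurd h (by norm_num)

/-- Thompson transfer inside `H = O²(G)`, for a subgroup of index two of `R = S ∩ H`. -/
theorem transfer [Finite G] (S : Sylow 2 G) {M : Subgroup G}
    (hM : M ≤ (S : Subgroup G) ⊓ pResidual 2 G) {g0 : G}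
    (hg0 : g0 ∈ (S : Subgroup G) ⊓ pResidual 2 G) (hg0M : g0 ∉ M)
    (hidx : ∀ g ∈ (S : Subgroup G) ⊓ pResidual 2 G, g ∈ M ∨ g * g0 ∈ M)
    {u : G} (hu : orderOf u = 2) (huH : u ∈ pResidual 2 G) :
    ∃ h ∈ pResidual 2 G, h * u * h⁻¹ ∈ M := by
  obtain ⟨R, hR⟩ := exists_sylow_resid S
  have hmem : ∀ x : ↥(pResidual 2 G), x ∈ (R : Subgroup ↥(pResidual 2 G)) ↔
      (x : G) ∈ (S : Subgroup G) ⊓ pResidual 2 G := fun x => by
    rw [hR, Subgroup.mem_subgroupOf, Subgroup.mem_inf]; exact ⟨fun h => ⟨h, x.2⟩, fun h => h.1⟩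
  obtain ⟨g, hg⟩ := Fusion.Thompson.exists_conj_mem_maximal R (M.subgroupOf (pResidual 2 G))
    (fun x hx => (hmem x).2 (hM hx))
    (Subgroup.relIndex_eq_two_iff.2 ⟨⟨g0, hg0.2⟩, (hmem _).2 hg0, fun b hb => by
      have hb' := (hmem b).1 hb
      rcases hidx b hb' with h | h
      · refine Or.inr ⟨h, fun h2 => hg0M ?_⟩
        have := M.mul_mem (M.inv_mem h) h2
        simpa using this
      · refine Or.inl ⟨h, fun h2 => hg0M ?_⟩
        have := M.mul_mem (M.inv_mem h2) h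
        simpa using this⟩)
    no_index_two ⟨u, huH⟩ (by rw [Subgroup.orderOf_mk]; exact hu)
  exact ⟨g, g.2, hg⟩

/-! ### Large elementary abelian subgroups -/

/-- An elementary abelian subgroup of `S` of order at least eight. -/
def Big (S E : Subgroup G) : Prop :=
  IsElementaryAbelian 2 E ∧ E ≤ S ∧ 8 ≤ Nat.card ↥E

theorem elemAb_sup_zpowers {A : Subgroup G} (hA : IsElementaryAbelian 2 A) {u : G}
    (hu2 : u ^ 2 = 1) (hcomm : ∀ a ∈ A, a * u = u * a) :
    IsElementaryAbelian 2 (A ⊔ Subgroup.zpowers u) := by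
  refine PGroups.elemAb_sup hA (PGroups.elemAb_zpowers hu2) ?_
  intro a ha b hb
  obtain ⟨k, rfl⟩ := Subgroup.mem_zpowers_iff.1 hb
  exact ((show Commute a u from hcomm a ha).zpow_right k).eq

/-- An elementary abelian `2`-group bigger than a subgroup of order at least four has order
at least eight. -/
theorem eight_le [Finite G] {A B : Subgroup G} (hB : IsElementaryAbelian 2 B) (hlt : A < B)
    (hA : 4 ≤ Nat.card ↥A) : 8 ≤ Nat.card ↥B := by
  haveI : Fact (Nat.Prime 2) := ⟨Nat.prime_two⟩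
  obtain ⟨m, hm⟩ := IsPGroup.iff_card.1 (PGroups.elemAb_isPGroup hB)
  have h1 : Nat.card ↥A < Nat.card ↥B := by
    by_contra h
    exact hlt.ne (Subgroup.eq_of_le_of_card_ge hlt.le (not_lt.1 h))
  rw [hm] at h1 ⊢
  have h2 : 2 ^ 2 < 2 ^ m := lt_of_le_of_lt hA h1
  have h3 : 2 < m := (Nat.pow_lt_pow_iff_right (by norm_num)).1 h2
  calc 8 = 2 ^ 3 := rfl
    _ ≤ 2 ^ m := Nat.pow_le_pow_right (by norm_num) h3

theorem mem_of_no_big [Finite G] {S A : Subgroup G} (hno : ¬ ∃ E, Big S E)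
    (hA : IsElementaryAbelian 2 A) (hAS : A ≤ S) (hA4 : 4 ≤ Nat.card ↥A) {u : G} (hu : u ∈ S)
    (hu2 : u ^ 2 = 1) (hcomm : ∀ a ∈ A, a * u = u * a) : u ∈ A := by
  by_contra hn
  have hB := elemAb_sup_zpowers hA hu2 hcomm
  exact hno ⟨_, hB, sup_le hAS (Subgroup.zpowers_le.2 hu),
    eight_le hB (lt_of_le_of_ne le_sup_left fun h => hn (h ▸ Subgroup.mem_sup_right
      (Subgroup.mem_zpowers u))) hA4⟩

/-! ### Strong embedding -/

theorem exists_stronglyEmbedded [Finite G] (hyp : Hyp G) (S : Sylow 2 G) (M : Subgroup G)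
    (hSM : (S : Subgroup G) ≤ M) (hM : M ≠ ⊤)
    (h : ∀ u u' g : G, u ∈ (S : Subgroup G) → u ∈ pResidual 2 G → orderOf u = 2 →
      u' ∈ (S : Subgroup G) → g * u * g⁻¹ = u' → g ∈ M) :
    ∃ N : Subgroup ↥(pResidual 2 G), IsStronglyEmbedded N := by
  haveI : Fact (Nat.Prime 2) := ⟨Nat.prime_two⟩
  haveI : (pResidual 2 G).Normal := Transfer.PResidual.pResidual_normal
  refine ⟨M.subgroupOf (pResidual 2 G), Involutions.StronglyEmbedded.of_forall_conj ?_ ?_ ?_⟩
  · intro htop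
    rw [Subgroup.subgroupOf_eq_top] at htop
    apply hM
    rw [eq_top_iff, ← Transfer.PResidual.sup_sylow_eq_top S]
    exact sup_le htop hSM
  · obtain ⟨z, hz, hzH, hz1⟩ := exists_zc_resid hyp S
    let z' : ↥(M.subgroupOf (pResidual 2 G)) := ⟨⟨z, hzH⟩, hSM (zc_le _ hz)⟩
    have ho : orderOf z' = 2 := orderOf_eq_prime
      (Subtype.ext (Subtype.ext (by simpa using (mem_zc.1 hz).2.2)))
      (fun e => hz1 (congrArg (fun w : ↥(M.subgroupOf (pResidual 2 G)) => ((w.1).1 : G)) e))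
    rw [even_iff_two_dvd]
    have h2 := orderOf_dvd_natCard z'
    rwa [ho] at h2
  · intro t htM ht g hgt
    have hto : orderOf (t : G) = 2 := (Subgroup.orderOf_coe t).trans ht
    have hconj : ∀ v : G, v ∈ M → orderOf v = 2 → ∃ m ∈ M, m * v * m⁻¹ ∈ (S : Subgroup G) := by
      intro v hv hvo
      have hv2 : v ^ 2 = 1 := hvo ▸ pow_orderOf_eq_one v
      have hp : IsPGroup 2 ↥(Subgroup.zpowers (⟨v, hv⟩ : ↥M)) :=
        isPGroup_zpowers_invol (Subtype.ext hv2)
      obtain ⟨P, hP⟩ := hp.exists_le_sylow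
      obtain ⟨m, hm⟩ := MulAction.exists_smul_eq ↥M P (S.subtype hSM)
      refine ⟨m, m.2, ?_⟩
      have h1 : m * ⟨v, hv⟩ * m⁻¹ ∈ ((m • P : Sylow 2 ↥M) : Subgroup ↥M) :=
        ⟨⟨v, hv⟩, hP (Subgroup.mem_zpowers _), rfl⟩
      rw [hm, Sylow.coe_subtype] at h1
      exact h1
    obtain ⟨m1, hm1, hu⟩ := hconj _ htM hto
    obtain ⟨m2, hm2, hu'⟩ := hconj _ hgt (by
      show orderOf ((g : G) * (t : G) * (g : G)⁻¹) = 2
      rw [Involutions.Basic.orderOf_conj_eq]; exact hto)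
    have hg' : m2 * (g : G) * m1⁻¹ ∈ M := by
      refine h (m1 * (t : G) * m1⁻¹) _ _ hu ?_ ((Involutions.Basic.orderOf_conj_eq m1 _).trans hto) hu' ?_
      · exact Transfer.PResidual.pResidual_normal.conj_mem _ t.2 m1
      · show m2 * (g : G) * m1⁻¹ * (m1 * (t : G) * m1⁻¹) * (m2 * (g : G) * m1⁻¹)⁻¹ =
          m2 * ((g : G) * (t : G) * (g : G)⁻¹) * m2⁻¹
        group
    have := M.mul_mem (M.mul_mem (M.inv_mem hm2) hg') hm1
    simpa [mul_assoc, Subgroup.mem_subgroupOf] using this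

/-! ### Characteristic two type -/

theorem isCharacteristicTwoType_of_cr [Finite G] (hyp : Hyp G) (S : Sylow 2 G) (K : Subgroup G)
    [K.Normal] (hK : pResidual 2 G ≤ K)
    (h : ∀ u ∈ (S : Subgroup G), u ∈ K → orderOf u = 2 → cr u = ⊥) :
    IsCharacteristicTwoType ↥K := by
  haveI : Fact (Nat.Prime 2) := ⟨Nat.prime_two⟩
  refine ⟨?_, fun T hT hT1 => Balance.centralizer_pCore_le_local (fun t ht => ?_) hT hT1⟩
  · obtain ⟨z, hz, hzH, hz1⟩ := exists_zc_resid hyp S
    have ho : orderOf (⟨z, hK hzH⟩ : ↥K) = 2 :=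
      orderOf_eq_prime (Subtype.ext (mem_zc.1 hz).2.2) (fun e => hz1 (congrArg Subtype.val e))
    have h2 := orderOf_dvd_natCard (⟨z, hK hzH⟩ : ↥K)
    rw [ho] at h2
    exact even_iff_two_dvd.2 h2
  have hto : orderOf (t : G) = 2 := (Subgroup.orderOf_coe t).trans ht
  have hcr : cr (t : G) = ⊥ := by
    obtain ⟨P, hP⟩ := (isPGroup_zpowers_invol
      (show (t : G) ^ 2 = 1 by rw [← hto]; exact pow_orderOf_eq_one _)).exists_le_sylow
    obtain ⟨g, hg⟩ := exists_map_eq P S
    have h1 : g * (t : G) * g⁻¹ ∈ (S : Subgroup G) := hg ▸ ⟨_, hP (Subgroup.mem_zpowers _), rfl⟩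
    have h2 := h _ h1 (Subgroup.Normal.conj_mem ‹K.Normal› _ t.2 g)
      ((Involutions.Basic.orderOf_conj_eq g _).trans hto)
    rw [cr_conj] at h2
    exact (Subgroup.map_eq_bot_iff_of_injective _ (MulAut.conj g).injective).1 h2
  set C := Subgroup.centralizer ({t} : Set ↥K) with hCdef
  have hsolv : Group.IsSolvable ↥C := by
    haveI := hyp.solv (t : G) hto
    let f : ↥C →* ↥(Subgroup.centralizer ({(t : G)} : Set G)) :=
      (K.subtype.comp C.subtype).codRestrict _ fun x =>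
        mem_cent_iff.2 (congrArg Subtype.val (mem_cent_iff.1 x.2))
    exact Group.isSolvable_of_isSolvable_injective (f := f) fun a b e => by
      apply Subtype.ext; apply Subtype.ext
      exact congrArg (fun y : ↥(Subgroup.centralizer ({(t : G)} : Set G)) => (y : G)) e
  haveI := hsolv
  refine SylowInter.Basic.centralizer_pCore_le 2 ?_
  set D := ((pPrimeCore 2 ↥C).map C.subtype).map K.subtype with hD
  have hD' : D ≤ Balance.coreIn 2 (Subgroup.centralizer ({(t : G)} : Set G) ⊓ K) := by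
    refine Balance.le_coreIn_of_not_dvd ?_ ?_ ?_
    · rintro _ ⟨x, ⟨y, -, rfl⟩, rfl⟩
      exact ⟨mem_cent_iff.2 (congrArg Subtype.val (mem_cent_iff.1 y.2)), (y : ↥K).2⟩
    · intro g hg
      have h1 : (⟨g, hg.2⟩ : ↥K) ∈ C := mem_cent_iff.2 (Subtype.ext (mem_cent_iff.1 hg.1))
      have hn := Balance.le_normalizer_coreIn (p := 2) C h1
      rw [Subgroup.mem_normalizer_iff_map_conj_eq] at hn ⊢
      rw [hD]
      show ((Balance.coreIn 2 C).map K.subtype).map (MulAut.conj g).toMonoidHom =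
        (Balance.coreIn 2 C).map K.subtype
      conv_rhs => rw [← hn]
      rw [Subgroup.map_map, Subgroup.map_map]
      rfl
    · rw [hD, Subgroup.card_map_of_injective K.subtype_injective]
      exact Balance.not_dvd_card_coreIn C
  have hle := hD'.trans (Balance.coreIn_le_coreIn inf_le_left (by
    intro g hg
    refine Subgroup.mem_normalizer_iff.2 fun x => ?_
    have h1 := Subgroup.mem_normalizer_iff.1
      (Subgroup.le_normalizer (H := Subgroup.centralizer ({(t : G)} : Set G)) hg) x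
    have h2 := Subgroup.mem_normalizer_iff.1
      (Subgroup.le_normalizer_of_normal (H := K) (K := ⊤) trivial : g ∈ _) x
    rw [Subgroup.mem_inf, Subgroup.mem_inf, ← h1, ← h2]))
  rw [show Balance.coreIn 2 (Subgroup.centralizer ({(t : G)} : Set G)) = cr (t : G) from
    (Balance.centralizerPPrimeCore_eq _).symm, hcr, le_bot_iff, hD,
    Subgroup.map_eq_bot_iff_of_injective _ K.subtype_injective,
    Subgroup.map_eq_bot_iff_of_injective _ C.subtype_injective] at hle
  exact hle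

end Cfsg.Agent.Lib.SolvCent
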