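import Cfsg.Agent.Lib.SolvCent.Two

/-!
# The case `|Ω₁(Z(S))| = 2` without normal four subgroup, and the assembly

Owner: helper2. Namespace `Cfsg.Agent.Lib.SolvCent`.
-/

set_option autoImplicit false
set_option linter.style.haveILetI false

open Cfsg

namespace Cfsg.Agent.Lib.SolvCent

variable {G : Type*} [Group G] [Finite G]

theorem Data.noFour_case {hyp : Hyp G} {S : Sylow 2 G} {z h : G} (d : Data hyp S z h)
    (hno : ¬ ∃ E : Subgroup ↥(S : Subgroup G),
      E.Normal ∧ IsElementaryAbelian 2 E ∧ Nat.card ↥E = 2 ^ 2)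
    {u : G} (hu : u ∈ (S : Subgroup G)) (huH : u ∈ pResidual 2 G) (huo : orderOf u = 2) :
    Nat.card ↥(cr u) = Nat.card ↥(cr z) := by
  haveI : Fact (Nat.Prime 2) := ⟨Nat.prime_two⟩
  set z' := h * z * h⁻¹ with hz'def
  have hzc : (⟨z', d.hz'⟩ : ↥(S : Subgroup G)) ∉ Subgroup.center ↥(S : Subgroup G) := by
    intro hc
    have : z' ∈ zc (S : Subgroup G) := mem_zc.2 ⟨d.hz', fun s hs =>
      congrArg Subtype.val (Subgroup.mem_center_iff.1 hc ⟨s, hs⟩),
      by rw [pow_two]; exact d.z'_mul⟩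
    rcases d.hgen _ this with e | e
    · exact d.z'_ne_one e
    · exact d.hne e
  obtain ⟨⟨a, haS⟩, n, hn, hao, hz'a, -, hall, hact⟩ :=
    HalfTransitive.dihedral_or_semidihedral S.2 hno
      (t := ⟨z', d.hz'⟩) (Subtype.ext d.z'_mul) hzc
  rw [Subgroup.orderOf_mk] at hao
  have hmemA : ∀ g : ↥(S : Subgroup G), g ∈ Subgroup.zpowers (⟨a, haS⟩ : ↥(S : Subgroup G)) ↔
      (g : G) ∈ Subgroup.zpowers a := fun g => by
    constructor
    · intro hg
      obtain ⟨k, rfl⟩ := Subgroup.mem_zpowers_iff.1 hg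
      exact Subgroup.mem_zpowers_iff.2 ⟨k, by simp⟩
    · intro hg
      obtain ⟨k, hk⟩ := Subgroup.mem_zpowers_iff.1 hg
      exact Subgroup.mem_zpowers_iff.2 ⟨k, Subtype.ext (by simpa using hk)⟩
  have hz'A : z' ∉ Subgroup.zpowers a := fun e => hz'a ((hmemA _).2 e)
  have hz'i : z'⁻¹ = z' := inv_eq_of_mul_eq_one_right d.z'_mul
  -- normal form
  have hform : ∀ g ∈ (S : Subgroup G), ∃ i : ℤ, g = a ^ i ∨ g = a ^ i * z' := by
    intro g hg
    rcases hall ⟨g, hg⟩ with e | e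
    · obtain ⟨i, hi⟩ := Subgroup.mem_zpowers_iff.1 ((hmemA _).1 e)
      exact ⟨i, Or.inl hi.symm⟩
    · obtain ⟨i, hi⟩ := Subgroup.mem_zpowers_iff.1 ((hmemA _).1 e)
      refine ⟨i, Or.inr ?_⟩
      rw [hi]
      show g = g * z' * z'
      rw [mul_assoc, d.z'_mul, mul_one]
  -- the action of `z'` on `⟨a⟩`
  obtain ⟨r, hr, hrne, hsolve⟩ : ∃ r : ℤ, z' * a * z' = a ^ r ∧
      ¬ (2 : ℤ) ^ (n + 1) ∣ r - 1 ∧
      ∀ j0 : ℤ, ∃ j : ℤ, (2 : ℤ) ^ (n + 1) ∣ j * (1 - r) - 2 * j0 := by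
    rcases hact with e | ⟨hn2, e⟩
    · refine ⟨-1, ?_, fun hd => ?_, fun j0 => ⟨j0, ⟨0, by ring⟩⟩⟩
      · have := congrArg Subtype.val e
        simpa [hz'i] using this
      · have h1 := Int.le_of_dvd (by norm_num) (dvd_neg.2 hd)
        have h2 : (2 : ℤ) ^ (1 + 1) ≤ 2 ^ (n + 1) := pow_le_pow_right₀ (by norm_num) (by omega)
        norm_num at h1 h2
        omega
    · obtain ⟨m, rfl⟩ : ∃ m, n = m + 2 := ⟨n - 2, by omega⟩
      refine ⟨(2 : ℤ) ^ (m + 2) - 1, ?_, fun hd => ?_,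
        fun j0 => ⟨j0 * (1 + 2 ^ (m + 1)), ⟨-j0 * 2 ^ m, ?_⟩⟩⟩
      · have := congrArg Subtype.val e
        simpa [hz'i] using this
      · have h4 : (4 : ℤ) ∣ 2 ^ (m + 2) := ⟨2 ^ m, by ring⟩
        have h1 : (4 : ℤ) ∣ 2 ^ (m + 2) - 1 - 1 := by
          refine dvd_trans ?_ hd
          exact ⟨2 ^ (m + 1), by ring⟩
        omega
      · ring
  have key : ∀ i : ℤ, a ^ i = 1 ↔ (2 : ℤ) ^ (n + 1) ∣ i := fun i => by
    rw [← orderOf_dvd_iff_zpow_eq_one, hao]; norm_num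
  have hconj : ∀ i : ℤ, z' * a ^ i = a ^ (r * i) * z' := by
    intro i
    have h1 : z' * a ^ i * z'⁻¹ = a ^ (r * i) := by
      rw [← conj_zpow, hz'i, hr, zpow_mul]
    rw [← h1]; group
  -- involutions of `⟨a⟩`
  have hinA : ∀ g : G, g ∈ Subgroup.zpowers a → g * g = 1 → g = 1 ∨ g = a ^ ((2 : ℤ) ^ n) := by
    intro g hg hgg
    obtain ⟨i, rfl⟩ := Subgroup.mem_zpowers_iff.1 hg
    rw [← zpow_add, key, ← two_mul, pow_succ', mul_dvd_mul_iff_left (by norm_num : (2 : ℤ) ≠ 0)]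
      at hgg
    obtain ⟨c, rfl⟩ := hgg
    rcases Int.even_or_odd c with ⟨b, rfl⟩ | ⟨b, rfl⟩
    · left; rw [key]; exact ⟨b, by ring⟩
    · right
      rw [show (2 : ℤ) ^ n * (2 * b + 1) = 2 ^ (n + 1) * b + 2 ^ n by ring, zpow_add,
        (key _).2 ⟨b, rfl⟩, one_mul]
  -- `z` is the involution of `⟨a⟩`
  have hzA : z ∈ Subgroup.zpowers a := by
    obtain ⟨i, e | e⟩ := hform z (zc_le _ d.hz)
    · exact e ▸ Subgroup.zpow_mem _ (Subgroup.mem_zpowers a) i
    exfalso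
    have hc : Commute a z := (d.comm haS)
    have hc' : Commute a z' := by
      have h1 : z' = (a ^ i)⁻¹ * z := by rw [e, ← mul_assoc, inv_mul_cancel, one_mul]
      rw [h1]
      exact ((Commute.refl a).zpow_right i).inv_right.mul_right hc
    apply hrne
    rw [← key, zpow_sub, zpow_one, mul_inv_eq_one, ← hr, ← hc'.eq, mul_assoc, d.z'_mul, mul_one]
  have hinA' : ∀ g : G, g ∈ Subgroup.zpowers a → g * g = 1 → g = 1 ∨ g = z := by
    intro g hg hgg
    rcases hinA g hg hgg with e | e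
    · exact Or.inl e
    · refine Or.inr (e.trans ?_)
      exact ((hinA z hzA d.z_mul).resolve_left d.hz1).symm
  -- even translates of `z'`
  have heven : ∀ j0 : ℤ, Nat.card ↥(cr (a ^ (2 * j0) * z')) = Nat.card ↥(cr z) := by
    intro j0
    obtain ⟨j, hj⟩ := hsolve j0
    have h1 : a ^ j * z' * (a ^ j)⁻¹ = a ^ (2 * j0) * z' := by
      rw [mul_assoc, ← zpow_neg, hconj, ← mul_assoc, ← zpow_add,
        show j + r * -j = (j * (1 - r) - 2 * j0) + 2 * j0 by ring, zpow_add, (key _).2 hj, one_mul]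
    rw [← h1, card_cr_conj]
    exact card_cr_conj h z
  have huu : u * u = 1 := by rw [← pow_two, ← huo]; exact pow_orderOf_eq_one u
  have hu1 : u ≠ 1 := fun e => by rw [e, orderOf_one] at huo; norm_num at huo
  obtain ⟨i, e | e⟩ := hform u hu
  · rw [(hinA' u (e ▸ Subgroup.zpow_mem _ (Subgroup.mem_zpowers a) i) huu).resolve_left hu1]
  rcases Int.even_or_odd i with ⟨c, rfl⟩ | hodd
  · rw [e, ← two_mul]; exact heven c
  -- odd translates: `a ∈ H`, transfer to `⟨a², z'⟩`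
  have haiH : a ^ i ∈ pResidual 2 G := by
    have := (pResidual 2 G).mul_mem huH d.z'_resid
    rwa [e, mul_assoc, d.z'_mul, mul_one] at this
  have haH : a ∈ pResidual 2 G := by
    obtain ⟨x, y, hxy⟩ : IsCoprime i ((2 : ℤ) ^ (n + 1)) := by
      refine IsCoprime.pow_right ?_
      obtain ⟨c, rfl⟩ := hodd
      exact ⟨1, -c, by ring⟩
    have : a = (a ^ i) ^ x := by
      have h1 : a ^ (x * i + y * 2 ^ (n + 1)) = a := by rw [hxy, zpow_one]
      rw [zpow_add, (key (y * 2 ^ (n + 1))).2 ⟨y, by ring⟩, mul_one, mul_comm, zpow_mul] at h1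
      exact h1.symm
    rw [this]; exact Subgroup.zpow_mem _ haiH x
  let M : Subgroup G :=
    { carrier := {g | ∃ c : ℤ, g = a ^ (2 * c) ∨ g = a ^ (2 * c) * z'}
      one_mem' := ⟨0, Or.inl (by simp)⟩
      mul_mem' := by
        rintro x y ⟨c, hx | hx⟩ ⟨b, hy | hy⟩ <;> subst hx <;> subst hy
        · exact ⟨c + b, Or.inl (by rw [← zpow_add]; ring_nf)⟩
        · exact ⟨c + b, Or.inr (by rw [← mul_assoc, ← zpow_add]; ring_nf)⟩
        · refine ⟨c + r * b, Or.inr ?_⟩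
          rw [mul_assoc, hconj, ← mul_assoc, ← zpow_add]; ring_nf
        · refine ⟨c + r * b, Or.inl ?_⟩
          calc a ^ (2 * c) * z' * (a ^ (2 * b) * z')
              = a ^ (2 * c) * ((z' * a ^ (2 * b)) * z') := by group
            _ = a ^ (2 * c) * (a ^ (r * (2 * b)) * (z' * z')) := by rw [hconj]; group
            _ = a ^ (2 * (c + r * b)) := by rw [d.z'_mul, mul_one, ← zpow_add]; ring_nf
      inv_mem' := by
        rintro x ⟨c, hx | hx⟩ <;> subst hx
        · exact ⟨-c, Or.inl (by rw [← zpow_neg]; ring_nf)⟩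
        · refine ⟨-(r * c), Or.inr ?_⟩
          rw [mul_inv_rev, hz'i, ← zpow_neg, hconj]; ring_nf }
  have hMR : M ≤ (S : Subgroup G) ⊓ pResidual 2 G := by
    rintro x ⟨c, hx | hx⟩ <;> subst hx
    · exact Subgroup.zpow_mem _ (⟨haS, haH⟩ : a ∈ (S : Subgroup G) ⊓ pResidual 2 G) _
    · exact Subgroup.mul_mem _
        (Subgroup.zpow_mem _ (⟨haS, haH⟩ : a ∈ (S : Subgroup G) ⊓ pResidual 2 G) _)
        ⟨d.hz', d.z'_resid⟩
  have haM : a ∉ M := by
    rintro ⟨c, hc | hc⟩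
    · have h1 : a ^ (2 * c - 1) = 1 := by rw [zpow_sub, zpow_one, ← hc, mul_inv_cancel]
      rw [key] at h1
      have := (dvd_pow_self (2 : ℤ) (Nat.succ_ne_zero n)).trans h1
      omega
    · refine hz'A ?_
      have h1 : z' = (a ^ (2 * c))⁻¹ * a := eq_inv_mul_iff_mul_eq.2 hc.symm
      exact Subgroup.mem_zpowers_iff.2 ⟨-(2 * c) + 1, by rw [zpow_add, zpow_neg, zpow_one, ← h1]⟩
  obtain ⟨rh, hrh⟩ : Odd r := by
    by_contra hr'
    rw [Int.not_odd_iff_even] at hr'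
    obtain ⟨c, rfl⟩ := hr'
    have h1 : z' * (z' * a * z') * z' = a := by
      rw [show z' * (z' * a * z') * z' = (z' * z') * a * (z' * z') by group, d.z'_mul, one_mul,
        mul_one]
    have h2 : a ^ ((c + c) * (c + c) - 1) = 1 := by
      rw [hr, hconj, mul_assoc, d.z'_mul, mul_one] at h1
      rw [zpow_sub, zpow_one, h1, mul_inv_cancel]
    rw [key] at h2
    have := (dvd_pow_self (2 : ℤ) (Nat.succ_ne_zero n)).trans h2
    rw [show (c + c) * (c + c) = 2 * (2 * c * c) by ring] at this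
    omega
  obtain ⟨g, -, hg⟩ := SolvCent.transfer S (M := M) hMR (g0 := a) ⟨haS, haH⟩ haM (fun b hb => by
    obtain ⟨k, hk | hk⟩ := hform b hb.1 <;> subst hk
    · rcases Int.even_or_odd k with ⟨c, rfl⟩ | ⟨c, rfl⟩
      · exact Or.inl ⟨c, Or.inl (by ring_nf)⟩
      · exact Or.inr ⟨c + 1, Or.inl (by rw [← zpow_add_one]; ring_nf)⟩
    · rcases Int.even_or_odd k with ⟨c, rfl⟩ | ⟨c, rfl⟩
      · exact Or.inl ⟨c, Or.inr (by ring_nf)⟩
      · refine Or.inr ⟨c + rh + 1, Or.inr ?_⟩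
        have h1 := hconj 1
        rw [zpow_one, mul_one] at h1
        rw [mul_assoc, h1, ← mul_assoc, ← zpow_add, hrh]
        ring_nf) huo huH
  have hvo : g * u * g⁻¹ * (g * u * g⁻¹) = 1 := by
    rw [show g * u * g⁻¹ * (g * u * g⁻¹) = g * (u * u) * g⁻¹ by group, huu]; group
  rw [← card_cr_conj g u]
  obtain ⟨c, hc | hc⟩ := hg
  · rw [(hinA' _ (hc ▸ Subgroup.zpow_mem _ (Subgroup.mem_zpowers a) _) hvo).resolve_left
      fun e' => hu1 (conj_eq_one_iff.1 e')]
  · rw [hc]; exact heven c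

/-- The case `|Ω₁(Z(S))| = 2`, `z` not weakly closed. -/
theorem Data.all_cases {hyp : Hyp G} {S : Sylow 2 G} {z h : G} (d : Data hyp S z h) :
    ∀ u ∈ (S : Subgroup G), u ∈ pResidual 2 G → orderOf u = 2 →
      Nat.card ↥(cr u) = Nat.card ↥(cr z) := by
  haveI : Fact (Nat.Prime 2) := ⟨Nat.prime_two⟩
  intro u hu huH huo
  by_cases hfour : ∃ E : Subgroup ↥(S : Subgroup G),
      E.Normal ∧ IsElementaryAbelian 2 E ∧ Nat.card ↥E = 2 ^ 2
  · obtain ⟨E, hEn, hEe, hEc⟩ := hfour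
    obtain ⟨t, ft⟩ := d.exists_four E (hEc.trans (by norm_num)) hEe.2
    by_cases hbig : ∃ F, Big (S : Subgroup G) F
    · exact ft.big_case d hbig hu huH huo
    · exact ft.small_case d hbig hu huH huo
  · exact d.noFour_case hfour hu huH huo

/-- The main theorem. -/
theorem main (hyp : Hyp G) (S : Sylow 2 G) :
    (∃ M : Subgroup ↥(pResidual 2 G), IsStronglyEmbedded M) ∨
    (Nat.card ↥(zc (S : Subgroup G) ⊓ pResidual 2 G) = 2 ∧
      ∀ h ∈ pResidual 2 G, ∀ z ∈ zc (S : Subgroup G) ⊓ pResidual 2 G,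
        h * z * h⁻¹ ∈ (S : Subgroup G) → h * z * h⁻¹ ∈ zc (S : Subgroup G)) ∨
    (Nat.card ↥(zc (S : Subgroup G)) = 4 ∧
      omegaOne 2 ((S : Subgroup G) ⊓ pResidual 2 G) = zc (S : Subgroup G)) ∨
    IsCharacteristicTwoType ↥(pResidual 2 G ⊔ zc (S : Subgroup G)) := by
  haveI : Fact (Nat.Prime 2) := ⟨Nat.prime_two⟩
  haveI hHn : (pResidual 2 G).Normal := Transfer.PResidual.pResidual_normal
  obtain ⟨z0, hz0, hz0H, hz01⟩ := exists_zc_resid hyp S
  haveI hKn : (pResidual 2 G ⊔ zc (S : Subgroup G)).Normal := by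
    refine ⟨fun x hx g => ?_⟩
    obtain ⟨k, hk, s, hs, rfl⟩ := Transfer.PResidual.exists_mul_sylow S g
    obtain ⟨y, hy, w, hw, rfl⟩ := Subgroup.mem_sup_of_normal_left.1 hx
    set K := pResidual 2 G ⊔ zc (S : Subgroup G) with hK
    have h1 : s * (y * w) * s⁻¹ ∈ K := by
      rw [show s * (y * w) * s⁻¹ = s * y * s⁻¹ * (s * w * s⁻¹) by group]
      refine K.mul_mem (Subgroup.mem_sup_left (hHn.conj_mem y hy s)) ?_
      rw [zc_comm hw hs, mul_inv_cancel_right]
      exact Subgroup.mem_sup_right hw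
    rw [show k * s * (y * w) * (k * s)⁻¹ = k * (s * (y * w) * s⁻¹) * k⁻¹ by group]
    exact K.mul_mem (K.mul_mem (Subgroup.mem_sup_left hk) h1)
      (K.inv_mem (Subgroup.mem_sup_left hk))
  have hchar : (∀ u ∈ (S : Subgroup G), u ∈ pResidual 2 G ⊔ zc (S : Subgroup G) →
      orderOf u = 2 → cr u = ⊥) →
      IsCharacteristicTwoType ↥(pResidual 2 G ⊔ zc (S : Subgroup G)) := fun hh =>
    isCharacteristicTwoType_of_cr hyp S _ le_sup_left hh
  obtain ⟨m, hm⟩ := IsPGroup.iff_card.1 (PGroups.elemAb_isPGroup (elemAb_zc (S : Subgroup G)))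
  by_cases h4 : 4 ≤ Nat.card ↥(zc (S : Subgroup G))
  · by_cases hbig : ∃ E, Big (S : Subgroup G) E
    · rcases four_le_case hyp S h4 hbig with h | h
      · exact Or.inr (Or.inr (Or.inr (hchar fun u hu _ huo => h u hu huo)))
      · exact Or.inl h
    -- rank two
    have hinv : ∀ v ∈ (S : Subgroup G), v ^ 2 = 1 → v ∈ zc (S : Subgroup G) := fun v hv hv2 =>
      mem_of_no_big hbig (elemAb_zc _) (zc_le _) h4 hv hv2 fun w hw => (zc_comm hw hv).symm
    have hcard : Nat.card ↥(zc (S : Subgroup G)) = 4 := by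
      by_contra hne
      refine hbig ⟨_, elemAb_zc _, zc_le _, ?_⟩
      rw [hm] at h4 hne ⊢
      have h2 : 2 ^ 2 < 2 ^ m := lt_of_le_of_ne h4 (Ne.symm hne)
      have h3 : 2 < m := (Nat.pow_lt_pow_iff_right (by norm_num)).1 h2
      calc 8 = 2 ^ 3 := rfl
        _ ≤ 2 ^ m := Nat.pow_le_pow_right (by norm_num) h3
    by_cases hZH : zc (S : Subgroup G) ≤ pResidual 2 G
    · refine Or.inr (Or.inr (Or.inl ⟨hcard, le_antisymm ?_ ?_⟩))
      · exact (Subgroup.closure_le _).2 fun x hx => hinv x hx.1.1 hx.2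
      · exact fun x hx => Subgroup.subset_closure
          ⟨⟨zc_le _ hx, hZH hx⟩, (mem_zc.1 hx).2.2⟩
    · refine Or.inr (Or.inl ⟨?_, fun h _ w hw hS => hinv _ hS ?_⟩)
      · have hlt : zc (S : Subgroup G) ⊓ pResidual 2 G < zc (S : Subgroup G) :=
          lt_of_le_of_ne inf_le_left fun e => hZH (e ▸ inf_le_right)
        have h1 : Nat.card ↥(zc (S : Subgroup G) ⊓ pResidual 2 G) <
            Nat.card ↥(zc (S : Subgroup G)) := by
          by_contra hc
          exact hlt.ne (Subgroup.eq_of_le_of_card_ge hlt.le (not_lt.1 hc))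
        have h2 := Subgroup.card_dvd_of_le hlt.le
        have h3 : Nat.card ↥(zc (S : Subgroup G) ⊓ pResidual 2 G) ≠ 1 := fun e =>
          hz01 (by
            have h' : z0 ∈ zc (S : Subgroup G) ⊓ pResidual 2 G := ⟨hz0, hz0H⟩
            rw [Subgroup.card_eq_one.1 e] at h'
            exact Subgroup.mem_bot.1 h')
        rw [hcard] at h1 h2
        have h5 : Nat.card ↥(zc (S : Subgroup G) ⊓ pResidual 2 G) ≠ 0 := Nat.card_pos.ne'
        interval_cases Nat.card ↥(zc (S : Subgroup G) ⊓ pResidual 2 G) <;> omega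
      · rw [conj_pow, (mem_zc.1 hw.1).2.2, mul_one, mul_inv_cancel]
  · -- `Ω₁(Z(S)) = {1, z0}`
    have hcard : Nat.card ↥(zc (S : Subgroup G)) = 2 := by
      have h1 : 1 < Nat.card ↥(zc (S : Subgroup G)) := by
        rw [Finite.one_lt_card_iff_nontrivial, Subgroup.nontrivial_iff_ne_bot]
        exact fun e => hz01 (Subgroup.mem_bot.1 (e ▸ hz0))
      rw [hm] at h1 h4 ⊢
      rcases m with _ | _ | m
      · simp at h1
      · rfl
      · exact absurd (show 4 ≤ 2 ^ (m + 2) by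
          rw [pow_add]; have : 0 < 2 ^ m := by positivity
          omega) h4
    have hgen : ∀ w ∈ zc (S : Subgroup G), w = 1 ∨ w = z0 := by
      intro w hw
      by_contra hcon
      rw [not_or] at hcon
      have h1 := Set.ncard_le_ncard (s := {1, z0, w}) (t := (zc (S : Subgroup G) : Set G))
        (by rintro x (rfl | rfl | rfl)
            exacts [one_mem _, hz0, hw])
      rw [← Nat.card_coe_set_eq (zc (S : Subgroup G) : Set G),
        Set.ncard_insert_of_notMem (by simp [Ne.symm hz01, Ne.symm hcon.1]),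
        Set.ncard_pair (Ne.symm hcon.2)] at h1
      have h2 : 2 + 1 ≤ Nat.card ↥(zc (S : Subgroup G)) := h1
      omega
    have hZH : zc (S : Subgroup G) ≤ pResidual 2 G := fun w hw => by
      rcases hgen w hw with rfl | rfl
      exacts [one_mem _, hz0H]
    by_cases hwc : ∀ h ∈ pResidual 2 G, h * z0 * h⁻¹ ∈ (S : Subgroup G) → h * z0 * h⁻¹ = z0
    · refine Or.inr (Or.inl ⟨by rw [inf_eq_left.2 hZH]; exact hcard, fun h hh w hw hS => ?_⟩)
      rcases hgen w hw.1 with rfl | rfl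
      · rw [mul_one, mul_inv_cancel]; exact one_mem _
      · rw [hwc h hh hS]; exact hz0
    push Not at hwc
    obtain ⟨h, hh, hS, hne⟩ := hwc
    have d : Data hyp S z0 h := ⟨hz0, hz01, hgen, hz0H, hh, hS, hne⟩
    rcases d.conclude d.all_cases with hc | hc
    · refine Or.inr (Or.inr (Or.inr (hchar fun u hu huK huo => hc u hu ?_ huo)))
      rwa [sup_eq_left.2 hZH] at huK
    · exact Or.inl hc

end Cfsg.Agent.Lib.SolvCent
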