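import Cfsg.Agent.Lib.SolvCent.PairExtend
import Cfsg.Agent.Lib.SolvCent.Cyclic

/-!
# Groups with all two-local subgroups solvable: dihedral or semidihedral Sylow subgroups

Owner: helper2. Namespace `Cfsg.Agent.Lib.SolvCent.Locals`.
-/

set_option autoImplicit false
set_option linter.style.haveILetI false

open Cfsg
open Cfsg.Agent.Lib.LAEven56.JComp

namespace Cfsg.Agent.Lib.SolvCent.Locals

theorem IsDihOrSd.congr {P Q : Type*} [Group P] [Group Q] (e : P ≃* Q) (h : IsDihOrSd P) :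
    IsDihOrSd Q := by
  rcases h with ⟨n, hn, ⟨f⟩⟩ | ⟨n, hn, hc, x, y, hx, hy, hxy⟩
  · exact Or.inl ⟨n, hn, ⟨e.symm.trans f⟩⟩
  · refine Or.inr ⟨n, hn, (Nat.card_congr e.toEquiv).symm.trans hc, e x, e y, ?_, ?_, ?_⟩
    · rw [MulEquiv.orderOf_eq, hx]
    · rw [MulEquiv.orderOf_eq, hy]
    · rw [← map_inv, ← map_mul, ← map_mul, hxy, map_pow]

/-- What a pair of two-locals says about a Sylow subgroup `P`. -/
inductive Outcome (X : Type*) [Group X] (P : Sylow 2 X) : Prop
  | dih (hz : Nat.card ↥(zc (P : Subgroup X)) = 2) (h : IsDihOrSd ↥(P : Subgroup X))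
  | proper (hz : Nat.card ↥(zc (P : Subgroup X)) = 2) (h : pResidual 2 X ≠ ⊤)
  | split (D : Subgroup X) (c : X) (hD : IsDihOrSd ↥D) (hDP : D ≤ (P : Subgroup X))
      (hDH : D ≤ pResidual 2 X) (hcP : c ∈ (P : Subgroup X)) (hc2 : c * c = 1) (hcD : c ∉ D)
      (hidx : ∀ g ∈ (P : Subgroup X), g ∈ D ∨ g * c ∈ D) (hconj : ∀ g : X, g * c * g⁻¹ ∉ D)

theorem locals {X : Type*} [Group X] [Finite X] (hG : ZNHyp X) (hc : Cfsg.pCore 2 X = ⊥) :
    (∃ M : Subgroup X, IsStronglyEmbedded M) ∨ ∃ P : Sylow 2 X, Outcome X P := by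
  haveI : Fact (Nat.Prime 2) := ⟨Nat.prime_two⟩
  obtain ⟨P0⟩ := (inferInstance : Nonempty (Sylow 2 X))
  have hP0 : (P0 : Subgroup X) ≠ ⊥ := P0.ne_bot_of_dvd_card (even_iff_two_dvd.1 hG.char2.1)
  have hJ := jT_ne_bot P0.2 hP0
  obtain ⟨M, hM, hNM⟩ := exists_maximal_ge
    (isTwoLocal_normalizer (P0.2.to_le (PGroups.thompsonSubgroupOf_le 2 _)) hJ)
  have F : Frame X M := ⟨hG, hc, hM.1, ⟨P0, hNM⟩⟩
  rcases Set.eq_empty_or_nonempty (Cfsg.straddlingTwoSubgroups M) with h | h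
  · exact Or.inl ⟨M, F.stronglyEmbedded_iff.2 h⟩
  obtain ⟨T, hT⟩ := exists_maxStraddling h
  obtain ⟨K, L, K', L', p⟩ := F.exists_pair hT
  obtain ⟨P, hTP⟩ := p.left.two.exists_le_sylow
  obtain ⟨z, a, b, s⟩ := exists_shape p hG
  refine Or.inr ⟨P, ?_⟩
  rcases p.iso hG with ⟨h1, -⟩ | ⟨h2, -⟩
  · obtain ⟨e1, e2⟩ := s.case_one hG h1 P hTP
    exact .dih e1 e2
  obtain ⟨c, hcc, hc1⟩ := (Subgroup.bot_or_exists_ne_one (cK T K)).resolve_left fun e => by
    rw [e, Subgroup.card_bot] at h2; omega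
  have s2 : Shape2 T K L K' L' z a b c := ⟨s, hcc, hc1, h2⟩
  by_cases hne : (P : Subgroup X) ≤ T
  swap
  · obtain ⟨e1, e2⟩ := s2.case_extend hG P hTP hne
    exact .proper e1 e2
  obtain rfl : T = (P : Subgroup X) := le_antisymm hTP hne
  set D := Subgroup.closure ({a, b} : Set X) with hD
  have hD' : IsDihOrSd ↥D := by
    refine dihedral_of_generators s.orderOf_a s.symm.orderOf_a rfl ?_
    rw [s.orderOf_ab hG]; norm_num
  have hcz : ∀ g : X, g * z * g⁻¹ ≠ c := by
    intro g e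
    set A := (P : Subgroup X).map (MulAut.conj g).toMonoidHom with hA
    have hAL : A ≤ L := by
      rw [← s2.centralizer_c hG]
      rintro _ ⟨y, hy, rfl⟩
      refine mem_cent_iff.2 ?_
      show g * y * g⁻¹ * c = c * (g * y * g⁻¹)
      rw [← e, show g * y * g⁻¹ * (g * z * g⁻¹) = g * (y * z) * g⁻¹ by group, s.z_comm hG hy]
      group
    obtain ⟨l, hl, Q, hAQ, hPQ⟩ := exists_conj_sylow (P.2.map _) P.2 hAL p.left.mem.1.1
    have hQP : (Q : Subgroup X) = P := P.3 Q.2 hPQ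
    rw [hQP] at hAQ
    have hN : l * g ∈ Subgroup.normalizer ((P : Subgroup X) : Set X) := by
      rw [Subgroup.mem_normalizer_iff_map_conj_eq]
      refine Subgroup.eq_of_le_of_card_ge ?_
        (Subgroup.card_map_of_injective (MulAut.conj (l * g)).injective).ge
      rintro _ ⟨y, hy, rfl⟩
      refine hAQ ⟨g * y * g⁻¹, ⟨y, hy, rfl⟩, ?_⟩
      show l * (g * y * g⁻¹) * l⁻¹ = l * g * y * (l * g)⁻¹
      group
    have h1 := s2.conj_z hG hN
    rw [show l * g * z * (l * g)⁻¹ = l * (g * z * g⁻¹) * l⁻¹ by group, e,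
      mul_inv_eq_iff_eq_mul.2 (mem_cent_iff.1 (s2.centralizer_c hG ▸ hl))] at h1
    exact s2.c_ne_z h1
  exact .split D c hD' s.closure_le s.le_pResidual s2.cT s2.c2 (s2.c_notMem hG)
    (fun g hg => s2.mem_cases hG hg) ((s2.case_sylow hG).2 hcz)

variable {G : Type*} [Group G] [Finite G]

theorem omegaCenterOf_eq (S : Subgroup G) : Cfsg.omegaCenterOf S = zc S := rfl

theorem isTwoLocal_map_normal {K : Subgroup G} {N : Subgroup ↥K} (hN : Cfsg.IsTwoLocal N) :
    ∃ L : Subgroup G, Cfsg.IsTwoLocal L ∧ N.map K.subtype ≤ L := by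
  obtain ⟨P, hP, hP1, rfl⟩ := hN
  refine ⟨_, isTwoLocal_normalizer (hP.map K.subtype)
    (fun e => hP1 ((Subgroup.map_eq_bot_iff_of_injective _ K.subtype_injective).1 e)),
    Subgroup.le_normalizer_map _⟩

theorem main2 (heven : Even (Nat.card G))
    (hN : ∀ L : Subgroup G, Cfsg.IsTwoLocal L → Group.IsSolvable L)
    (hZ : ∀ S : Sylow 2 G, Subgroup.centralizer (zc (S : Subgroup G) : Set G) ≤
      Subgroup.normalizer ((S : Subgroup G) : Set G))
    (hO' : Cfsg.pPrimeCore 2 G = ⊥) (hO : Cfsg.pCore 2 G = ⊥) (S : Sylow 2 G) :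
    (∃ M : Subgroup ↥(pResidual 2 G), IsStronglyEmbedded M) ∨
    IsDihOrSd ↥((S : Subgroup G) ⊓ pResidual 2 G) ∨
    (Nat.card ↥(zc (S : Subgroup G) ⊓ pResidual 2 G) = 2 ∧
      ∀ h ∈ pResidual 2 G, ∀ z ∈ zc (S : Subgroup G) ⊓ pResidual 2 G,
        h * z * h⁻¹ ∈ (S : Subgroup G) → h * z * h⁻¹ ∈ zc (S : Subgroup G)) ∨
    (Nat.card ↥(zc (S : Subgroup G)) = 4 ∧
      omegaOne 2 ((S : Subgroup G) ⊓ pResidual 2 G) = zc (S : Subgroup G)) := by
  haveI : Fact (Nat.Prime 2) := ⟨Nat.prime_two⟩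
  have hsolv : ∀ t : G, orderOf t = 2 → Group.IsSolvable ↥(Subgroup.centralizer ({t} : Set G)) := by
    intro t ht
    have hp : IsPGroup 2 ↥(Subgroup.zpowers t) :=
      isPGroup_zpowers_invol (ht ▸ pow_orderOf_eq_one t)
    have h1 := hN _ (isTwoLocal_normalizer hp (fun e => by
      rw [Subgroup.zpowers_eq_bot] at e; rw [e, orderOf_one] at ht; omega))
    have hle : Subgroup.centralizer ({t} : Set G) ≤
        Subgroup.normalizer (Subgroup.zpowers t : Set G) := by
      refine le_trans (le_of_eq ?_) (Subgroup.centralizer_le_normalizer _)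
      rw [Subgroup.zpowers_eq_closure, Subgroup.centralizer_closure]
    haveI := h1
    exact Group.isSolvable_of_isSolvable_injective (Subgroup.inclusion_injective hle)
  have hyp : Hyp G := ⟨hsolv, hZ, hO', hO, heven⟩
  rcases main hyp S with h | h | h | hch
  · exact Or.inl h
  · exact Or.inr (Or.inr (Or.inl h))
  · exact Or.inr (Or.inr (Or.inr h))
  set H := pResidual 2 G with hH
  haveI hHn : H.Normal := Transfer.PResidual.pResidual_normal
  set K := H ⊔ zc (S : Subgroup G) with hK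
  haveI hKn : K.Normal := by
    refine ⟨fun x hx g => ?_⟩
    obtain ⟨k, hk, s, hs, rfl⟩ := Transfer.PResidual.exists_mul_sylow S g
    obtain ⟨y, hy, w, hw, rfl⟩ := Subgroup.mem_sup_of_normal_left.1 hx
    have h1 : s * (y * w) * s⁻¹ ∈ K := by
      rw [show s * (y * w) * s⁻¹ = s * y * s⁻¹ * (s * w * s⁻¹) by group]
      refine K.mul_mem (Subgroup.mem_sup_left (hHn.conj_mem y hy s)) ?_
      rw [zc_comm hw hs, mul_inv_cancel_right]
      exact Subgroup.mem_sup_right hw
    rw [show k * s * (y * w) * (k * s)⁻¹ = k * (s * (y * w) * s⁻¹) * k⁻¹ by group]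
    exact K.mul_mem (K.mul_mem (Subgroup.mem_sup_left hk) h1)
      (K.inv_mem (Subgroup.mem_sup_left hk))
  have hHK : H ≤ K := le_sup_left
  have hzcK : ∀ S' : Sylow 2 G, zc (S' : Subgroup G) ≤ K := by
    intro S'
    obtain ⟨g, hg⟩ := exists_map_eq S S'
    rw [← hg, zc_map]
    rintro _ ⟨w, hw, rfl⟩
    exact hKn.conj_mem w (Subgroup.mem_sup_right hw) g
  -- a Sylow subgroup of `K` and one of `G` above it
  have hsyl : ∀ P : Sylow 2 ↥K, ∃ S' : Sylow 2 G,
      (S' : Subgroup G) ⊓ K = (P : Subgroup ↥K).map K.subtype := by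
    intro P
    obtain ⟨S', hS'⟩ := (P.2.map K.subtype).exists_le_sylow
    refine ⟨S', le_antisymm ?_ (le_inf hS' (Subgroup.map_subtype_le _))⟩
    have h1 := P.3 (S'.2.comap_of_injective K.subtype K.subtype_injective)
      (fun x hx => hS' ⟨x, hx, rfl⟩)
    rintro x ⟨hx, hxK⟩
    exact ⟨⟨x, hxK⟩, h1 ▸ hx, rfl⟩
  obtain ⟨z0, hz0, hz0H, hz01⟩ := exists_zc_resid hyp S
  -- the hypotheses inside `K`
  have hznK : ZNHyp ↥K := by
    refine ⟨hch, fun N hN' => ?_, fun P => ?_⟩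
    · obtain ⟨L, hL, hle⟩ := isTwoLocal_map_normal hN'
      haveI := hN L hL
      exact Group.isSolvable_of_isSolvable_injective
        (f := (Subgroup.inclusion hle).comp (N.equivMapOfInjective _ K.subtype_injective).toMonoidHom)
        ((Subgroup.inclusion_injective hle).comp (MulEquiv.injective _))
    · obtain ⟨S', hS'⟩ := hsyl P
      intro x hx
      have hxS : (x : G) ∈ Subgroup.normalizer ((S' : Subgroup G) : Set G) := by
        refine hZ S' (Subgroup.mem_centralizer_iff.2 fun w hw => ?_)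
        have hwP : (⟨w, hzcK S' hw⟩ : ↥K) ∈ (P : Subgroup ↥K) := by
          obtain ⟨y, hy, e⟩ : w ∈ (P : Subgroup ↥K).map K.subtype :=
            hS' ▸ ⟨zc_le _ hw, hzcK S' hw⟩
          obtain rfl : y = ⟨w, hzcK S' hw⟩ := Subtype.ext e
          exact hy
        have hwz : (⟨w, hzcK S' hw⟩ : ↥K) ∈ zc (P : Subgroup ↥K) := by
          refine mem_zc.2 ⟨hwP, fun s hs => Subtype.ext (zc_comm hw ?_), Subtype.ext (mem_zc.1 hw).2.2⟩
          exact (hS'.symm ▸ ⟨s, hs, rfl⟩ : (s : G) ∈ (S' : Subgroup G) ⊓ K).1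
        exact congrArg Subtype.val
          (Subgroup.mem_centralizer_iff.1 (omegaCenterOf_eq (P : Subgroup ↥K) ▸ hx) _ hwz)
      refine Subgroup.mem_normalizer_iff.2 fun y => ?_
      have hmem : ∀ y : ↥K, y ∈ (P : Subgroup ↥K) ↔ (y : G) ∈ (S' : Subgroup G) := fun y =>
        ⟨fun hy => (hS'.symm ▸ ⟨y, hy, rfl⟩ : (y : G) ∈ (S' : Subgroup G) ⊓ K).1, fun hy => by
          obtain ⟨y', hy', e⟩ : (y : G) ∈ (P : Subgroup ↥K).map K.subtype := hS' ▸ ⟨hy, y.2⟩
          exact Subtype.ext e ▸ hy'⟩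
      rw [hmem, hmem]
      exact Subgroup.mem_normalizer_iff.1 hxS y
  have hcoreK : Cfsg.pCore 2 ↥K = ⊥ := by
    have h2 := Cores.map_subtype_pCore 2 K
    rw [hO, inf_bot_eq] at h2
    exact (Subgroup.map_eq_bot_iff_of_injective _ K.subtype_injective).1 h2
  rcases locals hznK hcoreK with ⟨M, hM⟩ | ⟨P, hP⟩
  · -- strongly embedded
    refine Or.inl ⟨M.comap (Subgroup.inclusion hHK),
      Involutions.StronglyEmbedded.of_forall_conj ?_ ?_ ?_⟩
    · intro htop
      have hle : ∀ y : ↥K, (y : G) ∈ H → y ∈ M := fun y hy => by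
        have h1 : (⟨y, hy⟩ : ↥H) ∈ M.comap (Subgroup.inclusion hHK) := htop ▸ Subgroup.mem_top _
        exact h1
      refine hM.1 (eq_top_iff.2 fun g _ => ?_)
      refine Involutions.StronglyEmbedded.mem_of_conj_mem hM (t := ⟨z0, hHK hz0H⟩) ?_ (hle _ hz0H)
        (hle _ (hHn.conj_mem z0 hz0H g))
      exact orderOf_eq_prime (Subtype.ext (mem_zc.1 hz0).2.2) (fun e => hz01 (congrArg Subtype.val e))
    · have ho : orderOf (⟨z0, hHK hz0H⟩ : ↥K) = 2 :=
        orderOf_eq_prime (Subtype.ext (mem_zc.1 hz0).2.2) (fun e => hz01 (congrArg Subtype.val e))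
      obtain ⟨g, hg⟩ := Involutions.StronglyEmbedded.exists_conj_mem hM ho
      let u : ↥(M.comap (Subgroup.inclusion hHK)) :=
        ⟨⟨g * z0 * (g : G)⁻¹, hHn.conj_mem z0 hz0H g⟩, hg⟩
      have hu : orderOf u = 2 := by
        rw [← Subgroup.orderOf_coe, ← Subgroup.orderOf_coe]
        show orderOf ((g : G) * z0 * (g : G)⁻¹) = 2
        rw [Involutions.Basic.orderOf_conj_eq]
        exact orderOf_eq_prime (mem_zc.1 hz0).2.2 hz01
      rw [even_iff_two_dvd]
      have h2 := orderOf_dvd_natCard u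
      rwa [hu] at h2
    · intro t ht ho g hg
      refine Involutions.StronglyEmbedded.mem_of_conj_mem hM (t := Subgroup.inclusion hHK t) ?_ ht ?_
      · rw [orderOf_injective _ (Subgroup.inclusion_injective hHK), ho]
      · exact hg
  · -- the outcome
    obtain ⟨S', hS'⟩ := hsyl P
    have hmemP : ∀ x : ↥K, x ∈ (P : Subgroup ↥K) → (x : G) ∈ (S' : Subgroup G) := fun x hx =>
      (hS'.symm ▸ ⟨x, hx, rfl⟩ : (x : G) ∈ (S' : Subgroup G) ⊓ K).1
    have hPmem : ∀ x : G, x ∈ (S' : Subgroup G) → ∀ hx : x ∈ K, (⟨x, hx⟩ : ↥K) ∈ (P : Subgroup ↥K) :=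
      fun x hxS hx => by
        obtain ⟨y, hy, e⟩ : x ∈ (P : Subgroup ↥K).map K.subtype := hS' ▸ ⟨hxS, hx⟩
        obtain rfl : y = ⟨x, hx⟩ := Subtype.ext e
        exact hy
    -- it is enough to treat `S'`
    suffices hS'R : IsDihOrSd ↥((S' : Subgroup G) ⊓ H) by
      refine Or.inr (Or.inl ?_)
      obtain ⟨g, hg⟩ := exists_map_eq S' S
      refine hS'R.congr (((Subgroup.equivMapOfInjective _ (MulAut.conj g).toMonoidHom
        (MulAut.conj g).injective)).trans (MulEquiv.subgroupCongr ?_))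
      rw [Subgroup.map_inf _ _ _ (MulAut.conj g).injective, hg]
      exact congrArg _ (Subgroup.mem_normalizer_iff_map_conj_eq.1
        (Subgroup.le_normalizer_of_normal (H := H) (K := ⊤) trivial : g ∈ _))
    obtain ⟨w, hw, hwH, hw1⟩ := exists_zc_resid hyp S'
    have hKH : Nat.card ↥(zc (P : Subgroup ↥K)) = 2 → K = H := by
      intro hz
      have hcases : ∀ v ∈ zc (S' : Subgroup G), v = 1 ∨ v = w := by
        intro v hv
        have hlift : ∀ v (hv : v ∈ zc (S' : Subgroup G)),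
            (⟨v, hzcK S' hv⟩ : ↥K) ∈ zc (P : Subgroup ↥K) := fun v hv =>
          mem_zc.2 ⟨hPmem v (zc_le _ hv) _, fun s hs => Subtype.ext (zc_comm hv (hmemP s hs)),
            Subtype.ext (mem_zc.1 hv).2.2⟩
        rcases eq_one_or_eq_of_card_two hz.le (hlift w hw)
          (fun e => hw1 (congrArg Subtype.val e)) (hlift v hv) with e | e
        · exact Or.inl (congrArg Subtype.val e)
        · exact Or.inr (congrArg Subtype.val e)
      refine le_antisymm (sup_le le_rfl ?_) hHK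
      obtain ⟨g, hg⟩ := exists_map_eq S' S
      rw [← hg, zc_map]
      rintro _ ⟨v, hv, rfl⟩
      refine hHn.conj_mem v ?_ g
      rcases hcases v hv with rfl | rfl
      exacts [one_mem _, hwH]
    cases hP with
    | dih hz h =>
      rw [← hKH hz, hS']
      exact h.congr (Subgroup.equivMapOfInjective _ _ K.subtype_injective)
    | proper hz h =>
      exfalso
      refine h ?_
      have e := hKH hz
      apply Subgroup.map_injective K.subtype_injective
      rw [Transfer.PResidual.map_subtype_eq_of_le hHK, ← MonoidHom.range_eq_map,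
        Subgroup.range_subtype, e]
    | split D c hD hDP hDH hcP hc2 hcD hidx hconj =>
      have hDH' : ∀ d ∈ D, (d : G) ∈ H := fun d hd =>
        Transfer.PResidual.map_pResidual_le K.subtype ⟨d, hDH hd, rfl⟩
      have hcH : (c : G) ∉ H := by
        intro hcH
        have hM : D.map K.subtype ≤ (S' : Subgroup G) ⊓ H := by
          rintro _ ⟨d, hd, rfl⟩; exact ⟨hmemP d (hDP hd), hDH' d hd⟩
        have hnM : (c : G) ∉ D.map K.subtype := by
          rintro ⟨d, hd, e⟩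
          exact hcD (Subtype.ext e ▸ hd)
        have hc1 : orderOf (c : G) = 2 := by
          refine orderOf_eq_prime ?_ fun e => hcD ?_
          · rw [pow_two]; exact congrArg Subtype.val hc2
          · rw [show c = 1 from Subtype.ext e]; exact one_mem _
        obtain ⟨h, hh, hhc⟩ := transfer S' hM (g0 := (c : G)) ⟨hmemP c hcP, hcH⟩ hnM
          (fun g hg => by
            rcases hidx ⟨g, hHK hg.2⟩ (hPmem g hg.1 _) with e | e
            · exact Or.inl ⟨_, e, rfl⟩
            · exact Or.inr ⟨_, e, rfl⟩) hc1 hcH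
        obtain ⟨d, hd, e⟩ := hhc
        refine hconj ⟨h, hHK hh⟩ ?_
        have he : (⟨h, hHK hh⟩ : ↥K) * c * (⟨h, hHK hh⟩ : ↥K)⁻¹ = d := Subtype.ext e.symm
        exact he.symm ▸ hd
      refine hD.congr ((Subgroup.equivMapOfInjective _ _ K.subtype_injective).trans
        (MulEquiv.subgroupCongr (le_antisymm ?_ ?_)))
      · rintro _ ⟨d, hd, rfl⟩; exact ⟨hmemP d (hDP hd), hDH' d hd⟩
      · rintro x ⟨hxS, hxH⟩
        rcases hidx ⟨x, hHK hxH⟩ (hPmem x hxS _) with e | e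
        · exact ⟨_, e, rfl⟩
        · exfalso
          refine hcH ?_
          have := H.mul_mem (H.inv_mem hxH) (hDH' _ e)
          simpa using this

end Cfsg.Agent.Lib.SolvCent.Locals
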