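import Cfsg.Agent.Lib.SolvCent.PairSylow

/-!
# The case `L ≅ S₄ × 2`, Sylow subgroup above `T`: transfer

Owner: helper2. Namespace `Cfsg.Agent.Lib.SolvCent.Locals`.
-/

set_option autoImplicit false
set_option linter.style.haveILetI false

open Cfsg
open Cfsg.Agent.Lib.LAEven56.JComp

namespace Cfsg.Agent.Lib.SolvCent.Locals

variable {G : Type*} [Group G] [Finite G] {T K L K' L' : Subgroup G} {z a b c : G}

/-- A `2`-element outside a normal `N` of the Sylow subgroup, all conjugates in the same coset. -/
theorem pResidual_ne_top_of_controlled (P : Sylow 2 G) (N : Subgroup ↥(P : Subgroup G)) [N.Normal]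
    (hcomm : IsMulCommutative (↥(P : Subgroup G) ⧸ N)) {c : G} (hc2 : c * c = 1)
    (hcP : c ∈ (P : Subgroup G)) (hcN : (⟨c, hcP⟩ : ↥(P : Subgroup G)) ∉ N)
    (hctrl : ∀ (g : G) (h : g * c * g⁻¹ ∈ (P : Subgroup G)),
      (⟨g * c * g⁻¹, h⟩ : ↥(P : Subgroup G))⁻¹ * ⟨c, hcP⟩ ∈ N) :
    pResidual 2 G ≠ ⊤ := by
  haveI : Fact (Nat.Prime 2) := ⟨Nat.prime_two⟩
  letI : CommGroup (↥(P : Subgroup G) ⧸ N) :=
    { (inferInstance : Group (↥(P : Subgroup G) ⧸ N)) with mul_comm := hcomm.is_comm.comm }
  let φ : ↥(P : Subgroup G) →* ↥(P : Subgroup G) ⧸ N := QuotientGroup.mk' N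
  intro htop
  have hker : ∀ g : G, MonoidHom.transfer φ g = 1 := fun g => by
    have h := Transfer.PResidual.pResidual_le_ker (p := 2) (MonoidHom.transfer φ)
      (P.2.of_surjective φ (QuotientGroup.mk'_surjective N))
    exact h (htop ▸ Subgroup.mem_top g)
  have h := Fusion.Thompson.transfer_controlled φ c hcP (fun m g hg => by
    rcases Nat.even_or_odd m with ⟨k, rfl⟩ | ⟨k, rfl⟩
    · have hpow : c ^ (k + k) = 1 := by rw [← two_mul, pow_mul, pow_two, hc2, one_pow]
      have e1 : (⟨g * c ^ (k + k) * g⁻¹, hg⟩ : ↥(P : Subgroup G)) = 1 := Subtype.ext (by simp [hpow])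
      have e2 : (⟨c, hcP⟩ : ↥(P : Subgroup G)) ^ (k + k) = 1 := Subtype.ext (by simp [hpow])
      rw [e1, ← map_pow, e2]
    · have hpow : c ^ (2 * k + 1) = c := by
        rw [pow_succ, pow_mul, pow_two, hc2, one_pow, one_mul]
      have hg' : g * c * g⁻¹ ∈ (P : Subgroup G) := by rwa [hpow] at hg
      have e1 : (⟨g * c ^ (2 * k + 1) * g⁻¹, hg⟩ : ↥(P : Subgroup G)) = ⟨g * c * g⁻¹, hg'⟩ :=
        Subtype.ext (by simp [hpow])
      have e2 : (⟨c, hcP⟩ : ↥(P : Subgroup G)) ^ (2 * k + 1) = ⟨c, hcP⟩ := Subtype.ext (by simp [hpow])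
      rw [e1, ← map_pow, e2]
      exact (QuotientGroup.eq).2 (hctrl g hg'))
  rw [hker c] at h
  obtain ⟨k, hk⟩ := Nat.odd_iff.2 (Nat.two_dvd_ne_zero.1 P.not_dvd_index)
  rw [show (P : Subgroup G).index = 2 * k + 1 from hk, ← map_pow] at h
  have e2 : (⟨c, hcP⟩ : ↥(P : Subgroup G)) ^ (2 * k + 1) = ⟨c, hcP⟩ := Subtype.ext (by
    simp [pow_succ, pow_mul, pow_two, hc2])
  rw [e2] at h
  exact hcN ((QuotientGroup.eq_one_iff _).1 h.symm)

/-- In the case `T < P`: `O²(G) ≠ G`. -/
theorem Shape2.case_extend (s : Shape2 T K L K' L' z a b c) (hG : ZNHyp G)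
    (P : Sylow 2 G) (hTP : T ≤ (P : Subgroup G)) (hne : ¬ (P : Subgroup G) ≤ T) :
    Nat.card ↥(zc (P : Subgroup G)) = 2 ∧ pResidual 2 G ≠ ⊤ := by
  classical
  haveI : Fact (Nat.Prime 2) := ⟨Nat.prime_two⟩
  have v := s.pair.left
  obtain ⟨x, hxP, hxT, hxN⟩ := exists_normalizing P.2 hTP hne
  have hxL : x ∉ L := fun h => hxT (v.mem_T P.2 hxP h hxN)
  have hxc : x * c * x⁻¹ = c * z := (s.conj_c hG hxN).resolve_left fun e =>
    hxL (s.centralizer_c hG ▸ mem_cent_iff.2 (mul_inv_eq_iff_eq_mul.1 e))
  -- `Ω₁Z(P) = ⟨z⟩`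
  have hzcP : ∀ w ∈ zc (P : Subgroup G), w = 1 ∨ w = z := by
    intro w hw
    have hwT : w ∈ T := v.centralizer_T_le
      (Subgroup.mem_centralizer_iff.2 fun t ht => zc_comm hw (hTP ht))
    have hwJ : w ∈ zJ T := by
      rw [← s.pair.omegaCenter_eq hG]
      show w ∈ zc T
      exact mem_zc.2 ⟨hwT, fun t ht => zc_comm hw (hTP ht), (mem_zc.1 hw).2.2⟩
    have hxw : x * w * x⁻¹ = w := conj_eq_of_comm (zc_comm hw hxP).symm
    rcases s.zJ_cases hwJ with e | e | e | e
    · exact Or.inl e
    · exact Or.inr e
    · rw [e] at hxw; exact absurd (mul_eq_left.1 (hxw.symm.trans hxc).symm) s.z1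
    · exfalso
      rw [e, show x * (c * z) * x⁻¹ = x * c * x⁻¹ * (x * z * x⁻¹) by group, hxc,
        s.conj_z hG hxN, mul_assoc, s.zz, mul_one] at hxw
      exact s.z1 (mul_eq_left.1 hxw.symm)
  have hPne : (P : Subgroup G) ≠ ⊥ := fun e => s.z1 (Subgroup.mem_bot.1 (e ▸ hTP s.zT))
  obtain ⟨w, hw, -, hw1⟩ := exists_mem_zc P.2 le_rfl Subgroup.le_normalizer hPne
  obtain rfl : w = z := (hzcP w hw).resolve_left hw1
  refine ⟨?_, ?_⟩
  · have hle : zc (P : Subgroup G) = Subgroup.zpowers w := le_antisymm (fun y hy => by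
      rcases hzcP y hy with rfl | rfl
      · exact one_mem _
      · exact Subgroup.mem_zpowers _) (Subgroup.zpowers_le.2 hw)
    rw [hle, Nat.card_zpowers, orderOf_eq_prime (by rw [pow_two]; exact s.zz) s.z1]
  have hzcen : ∀ g ∈ (P : Subgroup G), g * w * g⁻¹ = w := fun g hg =>
    conj_eq_of_comm (zc_comm hw hg).symm
  -- `c` is not conjugate to `z`
  have hTP2 : 2 * Nat.card ↥T ≤ Nat.card ↥(P : Subgroup G) :=
    (mul_comm _ _).trans_le (PGroups.card_mul_le_card_of_mem hTP P.2 hxP hxT)
  have hcz : ∀ g : G, g * w * g⁻¹ ≠ c := by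
    intro g e
    have hle : (P : Subgroup G).map (MulAut.conj g).toMonoidHom ≤ L := by
      rw [← s.centralizer_c hG]
      rintro _ ⟨y, hy, rfl⟩
      refine mem_cent_iff.2 ?_
      show g * y * g⁻¹ * c = c * (g * y * g⁻¹)
      rw [← e, show g * y * g⁻¹ * (g * w * g⁻¹) = g * (y * w) * g⁻¹ by group, zc_comm hw hy]
      group
    have h1 := Subgroup.card_dvd_of_le hle
    rw [Subgroup.card_map_of_injective (MulAut.conj g).injective, s.pair.card_local hG, s.card] at h1
    obtain ⟨m, hm⟩ := IsPGroup.iff_card.1 P.2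
    rw [s.pair.card_T hG, s.card, hm] at hTP2
    rw [hm] at h1
    have h5 : 5 ≤ m := by
      by_contra hlt
      have := Nat.pow_le_pow_right (show 0 < 2 by norm_num) (show m ≤ 4 by omega)
      omega
    have := (pow_dvd_pow 2 h5).trans h1
    norm_num at this
  -- centralizers of `c`, `cz` in `P`
  have hPc : ∀ g ∈ (P : Subgroup G), g * c = c * g → g ∈ T := by
    intro g hg hgc
    exact relIndex_sylow_eq_one v.mem.1 (le_inf hTP v.mem.1.1) inf_le_right
      (P.2.to_le inf_le_left) ⟨hg, (s.centralizer_c hG) ▸ mem_cent_iff.2 hgc⟩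
  -- the stabilizer of `{c, cz}`
  set U := four w c s.zz s.c2 (s.z_comm hG s.cT).symm with hU
  set T2 := (P : Subgroup G) ⊓ Subgroup.normalizer (U : Set G) with hT2
  have hT2cases : ∀ g ∈ (P : Subgroup G), g ∈ T2 ↔ (g * c * g⁻¹ = c ∨ g * c * g⁻¹ = c * w) := by
    intro g hg
    constructor
    · intro h
      rcases mem_four.1 ((Subgroup.mem_normalizer_iff.1 h.2 c).1 (Or.inr (Or.inr (Or.inl rfl)))) with
        e | e | e | e
      · exact absurd (conj_eq_one_iff.1 e) s.c1
      · exact absurd (mul_left_cancel (mul_right_cancel (e.trans (hzcen g hg).symm))) s.c_ne_z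
      · exact Or.inl e
      · exact Or.inr (e.trans (s.z_comm hG s.cT).symm)
    · intro h
      refine ⟨hg, Subgroup.mem_normalizer_iff_map_conj_eq.2 (Subgroup.eq_of_le_of_card_ge ?_
        (Subgroup.card_map_of_injective (MulAut.conj g).injective).ge)⟩
      have hcU : g * c * g⁻¹ ∈ U := by
        rcases h with e | e <;> rw [e]
        · exact Or.inr (Or.inr (Or.inl rfl))
        · exact Or.inr (Or.inr (Or.inr (s.z_comm hG s.cT)))
      rintro _ ⟨u, hu, rfl⟩
      show g * u * g⁻¹ ∈ U
      rcases mem_four.1 hu with e | e | e | e <;> rw [e]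
      · rw [mul_one, mul_inv_cancel]; exact one_mem _
      · rw [hzcen g hg]; exact Or.inr (Or.inl rfl)
      · exact hcU
      · rw [show g * (w * c) * g⁻¹ = g * w * g⁻¹ * (g * c * g⁻¹) by group, hzcen g hg]
        exact mul_mem (Or.inr (Or.inl rfl)) hcU
  have hTT2 : T ≤ T2 := fun g hg =>
    (hT2cases g (hTP hg)).2 (Or.inl (conj_eq_of_comm (s.c_comm hG hg).symm))
  have hxi : x⁻¹ * c * x = c * w := by
    have hxN' := inv_mem hxN
    have := (s.conj_c hG hxN').resolve_left fun e =>
      hxL (by
        have := mul_inv_eq_iff_eq_mul.1 e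
        have h2 : x⁻¹ ∈ L := s.centralizer_c hG ▸ mem_cent_iff.2 this
        exact (inv_mem_iff).1 h2)
    rwa [inv_inv] at this
  have hsplit : ∀ g ∈ T2, g ∈ T ∨ x⁻¹ * g ∈ T := by
    intro g hg
    rcases (hT2cases g hg.1).1 hg with e | e
    · exact Or.inl (hPc g hg.1 (mul_inv_eq_iff_eq_mul.1 e))
    · refine Or.inr (hPc _ (mul_mem (inv_mem hxP) hg.1) (mul_inv_eq_iff_eq_mul.1 ?_))
      rw [show x⁻¹ * g * c * (x⁻¹ * g)⁻¹ = x⁻¹ * (g * c * g⁻¹) * x⁻¹⁻¹ by group, e,
        show x⁻¹ * (c * w) * x⁻¹⁻¹ = x⁻¹ * c * x * (x⁻¹ * w * x⁻¹⁻¹) by group,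
        hzcen _ (inv_mem hxP), hxi, mul_assoc, s.zz, mul_one]
  have hT2N : ∀ g ∈ T2, g ∈ Subgroup.normalizer (T : Set G) := by
    intro g hg
    rcases hsplit g hg with h | h
    · exact Subgroup.le_normalizer h
    · have := mul_mem hxN (Subgroup.le_normalizer h)
      rwa [mul_inv_cancel_left] at this
  set E := Cfsg.pCoreOf 2 L with hE
  set E' := Cfsg.pCoreOf 2 L' with hE'
  have hEcard : Nat.card ↥E = 8 := by rw [hE, s.pair.card_core hG, s.card]
  have hE'card : Nat.card ↥E' = 8 := by rw [hE', s.pair.symm.card_core hG, (s.symm hG).card]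
  have hTcard : Nat.card ↥T = 16 := by rw [s.pair.card_T hG, s.card]
  -- `T₂ = P`
  have hPT2 : (P : Subgroup G) ≤ T2 := by
    by_contra hcon
    obtain ⟨g, hgP, hgT2, hgN⟩ := exists_normalizing P.2 inf_le_left hcon
    set c1 := g * c * g⁻¹ with hc1
    have hc1T2 : c1 ∈ T2 := (Subgroup.mem_normalizer_iff.1 hgN c).1 (hTT2 s.cT)
    have hc12 : c1 * c1 = 1 := by
      rw [hc1, show g * c * g⁻¹ * (g * c * g⁻¹) = g * (c * c) * g⁻¹ by group, s.c2]; group
    set Q := T.map (MulAut.conj g).toMonoidHom with hQ
    have hQT2 : Q ≤ T2 := by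
      rintro _ ⟨t, ht, rfl⟩; exact (Subgroup.mem_normalizer_iff.1 hgN t).1 (hTT2 ht)
    have hQc : ∀ q ∈ Q, q * c1 = c1 * q := by
      rintro _ ⟨t, ht, rfl⟩
      show g * t * g⁻¹ * (g * c * g⁻¹) = g * c * g⁻¹ * (g * t * g⁻¹)
      rw [show g * t * g⁻¹ * (g * c * g⁻¹) = g * (t * c) * g⁻¹ by group, s.c_comm hG ht]; group
    have hQcard : Nat.card ↥Q = 16 := by
      rw [hQ, Subgroup.card_map_of_injective (MulAut.conj g).injective, hTcard]
    have hQT : 8 ≤ Nat.card ↥(Q ⊓ T : Subgroup G) := by
      have := card_le_two_mul_inf (A := Q) (H := T) (fun u hu huT y hy hyT => by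
        have h1 := (hsplit u (hQT2 hu)).resolve_left huT
        have h2 := (hsplit y (hQT2 hy)).resolve_left hyT
        have := mul_mem (inv_mem h1) h2
        simpa [mul_assoc] using this)
      omega
    by_cases hc1T : c1 ∈ T
    · -- `c1` lies in one of the two cores
      have key : ∀ {K L K' L' : Subgroup G} {a b c : G}, Shape2 T K L K' L' w a b c →
          (c1 = a ∨ c1 = a * w ∨ c1 * c = a ∨ c1 * c = a * w) → False := by
        intro K L K' L' a b c s h
        have hQE : Q ⊓ T ≤ Cfsg.pCoreOf 2 L := by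
          rintro q ⟨hqQ, hqT⟩
          rw [← s.pair.inf_centralizer_eq hG]
          have hqa : q * a = a * q := by
            have q1 : Commute q c1 := hQc q hqQ
            have q2 : Commute q c := s.c_comm hG hqT
            have q3 : Commute q w := s.z_comm hG hqT
            rcases h with e | e | e | e
            · exact (e ▸ q1).eq
            · have := q1.mul_right q3; rw [e, mul_assoc, s.zz, mul_one] at this; exact this.eq
            · exact (e ▸ q1.mul_right q2).eq
            · have := (q1.mul_right q2).mul_right q3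
              rw [e, mul_assoc, s.zz, mul_one] at this; exact this.eq
          exact ⟨hqT, mem_centralizer_of_two s.card_wOf s.zw.2 s.z1 s.aw s.a1 (s.az hG)
            (s.z_comm hG hqT) hqa⟩
        have heq : Q ⊓ T = Cfsg.pCoreOf 2 L := Subgroup.eq_of_le_of_card_ge hQE (by
          rw [s.pair.card_core hG, s.card]; exact hQT)
        have hQnT : ¬ Q ≤ T := fun hle => by
          rw [inf_eq_left.2 hle] at heq
          rw [heq, s.pair.card_core hG, s.card] at hQcard
          omega
        obtain ⟨y, hyQ, hyT⟩ := SetLike.not_le_iff_exists.1 hQnT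
        have hyL : y ∈ L := by
          rw [← s.pair.left.normalizer_core_eq, ← heq]
          exact Subgroup.inf_normalizer_le_normalizer_inf
            ⟨Subgroup.le_normalizer hyQ, hT2N y (hQT2 hyQ)⟩
        exact hyT (s.pair.left.mem_T P.2 (hQT2 hyQ).1 hyL (hT2N y (hQT2 hyQ)))
      have hkey' : (c1 = b ∨ c1 = b * w ∨ c1 * c = b ∨ c1 * c = b * w) → False := by
        intro h
        refine key (s.symm hG) ?_
        rcases h with e | e | e | e
        · exact Or.inl e
        · exact Or.inr (Or.inl e)
        · exact Or.inr (Or.inr (Or.inr (by rw [← mul_assoc, e])))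
        · exact Or.inr (Or.inr (Or.inl (by rw [← mul_assoc, e, mul_assoc, s.zz, mul_one])))
      have hc1P := hTP hc1T
      have hngT2 : c1 ≠ c ∧ c1 ≠ c * w := ⟨fun e => hgT2 ((hT2cases g hgP).2 (Or.inl e)),
        fun e => hgT2 ((hT2cases g hgP).2 (Or.inr e))⟩
      have hne1 : c1 ≠ 1 := fun e => s.c1 (conj_eq_one_iff.1 e)
      have hnez : c1 ≠ w := fun e => hcz g⁻¹ (by rw [← e, hc1]; group)
      rcases s.mem_cases hG hc1T with hd | hd
      · rcases s.toShape.closure_cases hG hd with (e | e | e | e) | (e | e | e | e)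
        · exact hne1 e
        · exact hnez e
        · exact s.z1 (by rw [← s.ab_sq hG, ← e]; exact hc12)
        · refine s.z1 ?_
          have h := hc12
          rw [e, show a * b * w * (a * b * w) = a * b * (w * (a * b)) * w by group,
            ← s.z_comm hG (mul_mem s.aT s.bT),
            show a * b * (a * b * w) * w = a * b * (a * b) * (w * w) by group, s.ab_sq hG, s.zz,
            mul_one] at h
          exact h
        · exact key s (Or.inl e)
        · exact key s (Or.inr (Or.inl e))
        · exact hkey' (Or.inl e)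
        · exact hkey' (Or.inr (Or.inl e))
      · have hd2 : c1 * c * (c1 * c) = 1 := by
          rw [show c1 * c * (c1 * c) = c1 * (c * c1) * c by group, ← s.c_comm hG hc1T,
            show c1 * (c1 * c) * c = c1 * c1 * (c * c) by group, hc12, s.c2, one_mul]
        rcases s.toShape.closure_cases hG hd with (e | e | e | e) | (e | e | e | e)
        · refine hngT2.1 ?_
          rw [eq_inv_of_mul_eq_one_left e]; exact inv_eq_of_mul_eq_one_right s.c2
        · refine hngT2.2 ?_
          calc c1 = c1 * c * c := by rw [mul_assoc, s.c2, mul_one]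
            _ = w * c := by rw [e]
            _ = c * w := (s.z_comm hG s.cT).symm
        · exact s.z1 (by rw [← s.ab_sq hG, ← e]; exact hd2)
        · refine s.z1 ?_
          have h := hd2
          rw [e, show a * b * w * (a * b * w) = a * b * (w * (a * b)) * w by group,
            ← s.z_comm hG (mul_mem s.aT s.bT),
            show a * b * (a * b * w) * w = a * b * (a * b) * (w * w) by group, s.ab_sq hG, s.zz,
            mul_one] at h
          exact h
        · exact key s (Or.inr (Or.inr (Or.inl e)))
        · exact key s (Or.inr (Or.inr (Or.inr e)))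
        · exact hkey' (Or.inr (Or.inr (Or.inl e)))
        · exact hkey' (Or.inr (Or.inr (Or.inr e)))
    · -- `c1` swaps the two locals
      set f := (MulAut.conj c1).toMonoidHom with hf
      have hc1c : c1 * c * c1⁻¹ = c * w := by
        refine (s.conj_c hG (hT2N c1 hc1T2)).resolve_left fun e => hc1T ?_
        exact hPc c1 hc1T2.1 (mul_inv_eq_iff_eq_mul.1 e)
      have hLL : L.map f = L' := by
        rw [← s.centralizer_c hG, ← (s.symm hG).centralizer_c hG, ← hc1c]
        exact Balance.map_centralizer_singleton (MulAut.conj c1) c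
      have hEE : E.map f = E' := by
        rw [hE, hE', ← hLL, CosetGraph.SylowIn.pCoreOf_map 2 L f (MulAut.conj c1).injective]
      have hsmall : Nat.card ↥((Q ⊓ T) ⊓ E : Subgroup G) ≤ 2 := by
        have hle : (Q ⊓ T) ⊓ E ≤ Subgroup.zpowers w := by
          rintro q ⟨⟨hqQ, hqT⟩, hqE⟩
          have hfix : c1 * q * c1⁻¹ = q := conj_eq_of_comm (hQc q hqQ)
          have hqE' : q ∈ E' := by
            rw [← hEE]; exact ⟨q, hqE, hfix⟩
          have hqa : ∀ t ∈ Cfsg.wOf K, t * q = q * t := by
            intro t ht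
            have h1 := hqE
            rw [hE, ← s.pair.inf_centralizer_eq hG] at h1
            exact Subgroup.mem_centralizer_iff.1 h1.2 t ht
          have hqb : ∀ t ∈ Cfsg.wOf K', t * q = q * t := by
            intro t ht
            have h1 := hqE'
            rw [hE', ← s.pair.symm.inf_centralizer_eq hG] at h1
            exact Subgroup.mem_centralizer_iff.1 h1.2 t ht
          have hqq : q * q = 1 := by
            have h1 := hqE
            rw [hE, s.pair.core_eq_vC hG] at h1
            exact vC_sq h1
          have hle2 : Subgroup.closure ({a, b} : Set G) ≤ Subgroup.centralizer ({q} : Set G) :=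
            (Subgroup.closure_le _).2 (by
              rintro t (rfl | rfl)
              · exact mem_cent_iff.2 (hqa _ s.aw)
              · exact mem_cent_iff.2 (hqb _ s.bw))
          have hcomm : ∀ t ∈ T, t * q = q * t := by
            intro t ht
            rcases s.mem_cases hG ht with hd | hd
            · exact mem_cent_iff.1 (hle2 hd)
            · have h1 : Commute (t * c) q := mem_cent_iff.1 (hle2 hd)
              have h2 := h1.mul_left (show Commute c q from (s.c_comm hG hqT).symm)
              rw [mul_assoc, s.c2, mul_one] at h2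
              exact h2.eq
          have hqJ : q ∈ zJ T := by
            rw [← s.pair.omegaCenter_eq hG]
            show q ∈ zc T
            exact mem_zc.2 ⟨hqT, hcomm, by rw [pow_two]; exact hqq⟩
          rcases s.zJ_cases hqJ with e | e | e | e
          · rw [e]; exact one_mem _
          · rw [e]; exact Subgroup.mem_zpowers _
          · rw [e, hc1c] at hfix; exact absurd (mul_eq_left.1 hfix) s.z1
          · rw [e, show c1 * (c * w) * c1⁻¹ = c1 * c * c1⁻¹ * (c1 * w * c1⁻¹) by group, hc1c,
              hzcen c1 hc1T2.1, mul_assoc, s.zz, mul_one] at hfix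
            exact absurd (mul_eq_left.1 hfix.symm) s.z1
        refine (Subgroup.card_le_of_le hle).trans (le_of_eq ?_)
        rw [Nat.card_zpowers, orderOf_eq_prime (by rw [pow_two]; exact s.zz) s.z1]
      have hET : E ≤ T := LocalData.core_le_T s.pair.left.mem
      have hidx : (E.subgroupOf T).index = 2 := by
        have h1 := (E.subgroupOf T).card_mul_index
        rw [Nat.card_congr (Subgroup.subgroupOfEquivOfLe hET).toEquiv, hEcard, hTcard] at h1
        omega
      have h4 := card_le_two_mul_inf (A := Q ⊓ T) (H := E) (fun u hu huE y hy hyE => by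
        have h := Subgroup.mul_mem_iff_of_index_two hidx
          (a := (⟨u, hu.2⟩ : ↥T)⁻¹) (b := ⟨y, hy.2⟩)
        simp only [Subgroup.mem_subgroupOf, inv_mem_iff, Subgroup.coe_mul, Subgroup.coe_inv] at h
        exact h.2 (iff_of_false huE hyE))
      omega
  -- classes: the involutions of `Dc` are not conjugate to `z`, those of `D` are
  set D := Subgroup.closure ({a, b} : Set G) with hD
  have hzclass : ∀ {g : G}, g * c * g⁻¹ ∈ D → False := fun {g} hg =>
    ((s.case_sylow hG).2 hcz) g hg
  have hPN : ∀ g ∈ (P : Subgroup G), g ∈ Subgroup.normalizer (T : Set G) := fun g hg =>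
    hT2N g (hPT2 hg)
  have hDP : D ≤ (P : Subgroup G) := s.toShape.closure_le.trans hTP
  -- `D` is normal in `P`
  have hconjD : ∀ g ∈ (P : Subgroup G), ∀ v, (v = a ∨ v = b) → g * v * g⁻¹ ∈ D := by
    intro g hg v hv
    have hvT : v ∈ T := by rcases hv with rfl | rfl; exacts [s.aT, s.bT]
    have hv2 : v * v = 1 := by rcases hv with rfl | rfl; exacts [s.aa, s.bb]
    have hv1 : v ≠ 1 := by rcases hv with rfl | rfl; exacts [s.a1, s.symm hG |>.a1]
    obtain ⟨k, hk⟩ : ∃ k, k * w * k⁻¹ = v := by
      rcases hv with rfl | rfl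
      · exact s.toShape.a_conj_z hG
      · exact s.toShape.symm.a_conj_z hG
    have hvT' := (Subgroup.mem_normalizer_iff.1 (hPN g hg) v).1 hvT
    refine (s.mem_cases hG hvT').resolve_right fun hd => ?_
    set u := g * v * g⁻¹ * c with hu
    have hu2 : u * u = 1 := by
      rw [hu, show g * v * g⁻¹ * c * (g * v * g⁻¹ * c) = g * v * g⁻¹ * (c * (g * v * g⁻¹)) * c by group,
        ← s.c_comm hG hvT',
        show g * v * g⁻¹ * (g * v * g⁻¹ * c) * c = g * (v * v) * g⁻¹ * (c * c) by group, hv2, s.c2]
      group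
    have huv : g * v * g⁻¹ = u * c := by rw [hu, mul_assoc _ c c, s.c2, mul_one]
    -- an element `u c` with `u ∈ D` an involution is conjugate to `c`
    have hconjc : ∃ q, q * c * q⁻¹ = u * c := by
      by_cases hu1 : u = 1
      · exact ⟨1, by rw [hu1]; simp⟩
      have move : ∀ {K L K' L' : Subgroup G} {a b c : G}, Shape2 T K L K' L' w a b c →
          ∀ r, (r = a ∨ r = a * w) → ∃ q, q * w * q⁻¹ = r ∧ q * c * q⁻¹ = c := by
        intro K L K' L' a b c s r hr
        have hp := preComp_of s.pair.left.two s.pair.left.comp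
        obtain ⟨d, hd, -, hd3, hgen⟩ := hp.exists_three
        have hdc : ∀ e ∈ L, e * c * e⁻¹ = c := fun e he =>
          conj_eq_of_comm (mem_cent_iff.1 ((s.centralizer_c hG).symm ▸ he)).symm
        have hdW : d ∈ Subgroup.normalizer (Cfsg.wOf K : Set G) :=
          normalizer_le_normalizer_wOf K (Subgroup.le_normalizer hd)
        have hdL : d ∈ L := s.pair.left.le hd
        have hbL : b ∈ L := s.pair.left.mem.1.1 s.bT
        have hbw : b * w * b⁻¹ = w := conj_eq_of_comm (s.z_comm hG s.bT).symm
        rcases s.wOf_cases hG ((Subgroup.mem_normalizer_iff.1 hdW w).1 s.zw.2) with e | e | e | e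
        · exact absurd (conj_eq_one_iff.1 e) s.z1
        · exact absurd (hp.no_fixed hd hd3 hgen w s.zw.2 (mul_inv_eq_iff_eq_mul.1 e)) s.z1
        · rcases hr with r' | r' <;> rw [r']
          · exact ⟨d, e, hdc d hdL⟩
          · refine ⟨b * d, ?_, hdc _ (mul_mem hbL hdL)⟩
            rw [show b * d * w * (b * d)⁻¹ = b * (d * w * d⁻¹) * b⁻¹ by group, e, s.bab hG]
        · rcases hr with r' | r' <;> rw [r']
          · refine ⟨b * d, ?_, hdc _ (mul_mem hbL hdL)⟩
            rw [show b * d * w * (b * d)⁻¹ = b * (d * w * d⁻¹) * b⁻¹ by group, e,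
              show b * (a * w) * b⁻¹ = b * a * b⁻¹ * (b * w * b⁻¹) by group, s.bab hG, hbw, mul_assoc,
              s.zz, mul_one]
          · exact ⟨d, e, hdc d hdL⟩
      rcases s.toShape.closure_cases hG hd with (e | e | e | e) | (e | e | e | e)
      · exact absurd e hu1
      · refine ⟨x, ?_⟩
        rw [hxc, show g * v * g⁻¹ * c = u from rfl] at *
        rw [e]; exact s.z_comm hG s.cT
      · exact absurd (by rw [← s.ab_sq hG, ← e]; exact hu2) s.z1
      · refine absurd ?_ s.z1
        have h := hu2
        rw [show u = a * b * w from e,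
          show a * b * w * (a * b * w) = a * b * (w * (a * b)) * w by group,
          ← s.z_comm hG (mul_mem s.aT s.bT),
          show a * b * (a * b * w) * w = a * b * (a * b) * (w * w) by group, s.ab_sq hG, s.zz,
          mul_one] at h
        exact h
      · obtain ⟨q, hq1, hq2⟩ := move s u (Or.inl e)
        refine ⟨q * x, ?_⟩
        rw [show q * x * c * (q * x)⁻¹ = q * (x * c * x⁻¹) * q⁻¹ by group, hxc,
          show q * (c * w) * q⁻¹ = q * c * q⁻¹ * (q * w * q⁻¹) by group, hq1, hq2]
        exact (s.c_comm hG (s.toShape.closure_le hd)).symm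
      · obtain ⟨q, hq1, hq2⟩ := move s u (Or.inr e)
        refine ⟨q * x, ?_⟩
        rw [show q * x * c * (q * x)⁻¹ = q * (x * c * x⁻¹) * q⁻¹ by group, hxc,
          show q * (c * w) * q⁻¹ = q * c * q⁻¹ * (q * w * q⁻¹) by group, hq1, hq2]
        exact (s.c_comm hG (s.toShape.closure_le hd)).symm
      all_goals
        have hr : u * w = b ∨ u * w = b * w := by
          first
            | (right; rw [e]; done)
            | (left; rw [e, mul_assoc, s.zz, mul_one])
        obtain ⟨q, hq1, hq2⟩ := move (s.symm hG) (u * w) hr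
        refine ⟨q, ?_⟩
        calc q * c * q⁻¹ = q * (c * w) * q⁻¹ * (q * w * q⁻¹) := by
              rw [show q * (c * w) * q⁻¹ * (q * w * q⁻¹) = q * (c * (w * w)) * q⁻¹ by group,
                s.zz, mul_one]
          _ = (c * w) * (u * w) := by rw [hq1, hq2]
          _ = c * (w * u) * w := by group
          _ = c * u * (w * w) := by rw [← s.z_comm hG (s.toShape.closure_le hd)]; group
          _ = u * c := by rw [s.zz, mul_one, s.c_comm hG (s.toShape.closure_le hd)]
    obtain ⟨q, hq⟩ := hconjc
    exact hcz (q⁻¹ * g * k) (by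
      rw [show q⁻¹ * g * k * w * (q⁻¹ * g * k)⁻¹ = q⁻¹ * (g * (k * w * k⁻¹) * g⁻¹) * q by group,
        hk, huv, ← hq]
      group)
  haveI hDn : (D.subgroupOf (P : Subgroup G)).Normal := by
    refine Subgroup.normal_subgroupOf_of_le_normalizer fun g hg => ?_
    rw [Subgroup.mem_normalizer_iff_map_conj_eq]
    refine Subgroup.eq_of_le_of_card_ge ?_
      (Subgroup.card_map_of_injective (MulAut.conj g).injective).ge
    rw [hD, Subgroup.map_le_iff_le_comap]
    refine (Subgroup.closure_le _).2 ?_
    rintro v (rfl | rfl)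
    · exact hconjD g hg _ (Or.inl rfl)
    · exact hconjD g hg _ (Or.inr rfl)
  -- the index of `D` in `P` is four
  have hPcard : Nat.card ↥(P : Subgroup G) = 32 := by
    have h2 := card_le_two_mul_inf (A := (P : Subgroup G)) (H := T) (fun u hu huT y hy hyT => by
      have h1 := (hsplit u (hPT2 hu)).resolve_left huT
      have h2 := (hsplit y (hPT2 hy)).resolve_left hyT
      have := mul_mem (inv_mem h1) h2
      simpa [mul_assoc] using this)
    rw [inf_eq_right.2 hTP] at h2
    omega
  have hDidx : (D.subgroupOf (P : Subgroup G)).index = 4 := by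
    have h1 := (D.subgroupOf (P : Subgroup G)).card_mul_index
    rw [Nat.card_congr (Subgroup.subgroupOfEquivOfLe hDP).toEquiv, s.toShape.card_closure hG,
      hPcard] at h1
    omega
  have hcP : c ∈ (P : Subgroup G) := hTP s.cT
  by_cases hy : ∃ g, g * c * g⁻¹ ∈ (P : Subgroup G) ∧ g * c * g⁻¹ ∉ T
  · obtain ⟨g0, hyP, hyT⟩ := hy
    set y := g0 * c * g0⁻¹ with hydef
    have hy2 : y * y = 1 := by
      rw [hydef, show g0 * c * g0⁻¹ * (g0 * c * g0⁻¹) = g0 * (c * c) * g0⁻¹ by group, s.c2]; group
    have hyN := hPN y hyP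
    have hyi : y⁻¹ = y := inv_eq_of_mul_eq_one_right hy2
    have hyc : y * c * y = c * w := by
      conv_lhs => arg 2; rw [← hyi]
      refine (s.conj_c hG hyN).resolve_left fun e => hyT ?_
      exact hPc y hyP (mul_inv_eq_iff_eq_mul.1 e)
    -- `y` maps `a` to `b` or `bz`
    have hya : y * a * y = b ∨ y * a * y = b * w := by
      have haE : a ∈ E := by
        rw [hE, ← s.pair.inf_centralizer_eq hG]
        exact ⟨s.aT, Subgroup.mem_centralizer_iff.2 fun t ht =>
          PGroups.elemAb_comm (preComp_of s.pair.left.two s.pair.left.comp).wOf_elemAb ht s.aw⟩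
      have hLL : L.map (MulAut.conj y).toMonoidHom = L' := by
        rw [← s.centralizer_c hG, ← (s.symm hG).centralizer_c hG,
          show c * w = y * c * y⁻¹ by rw [hyi, hyc]]
        exact Balance.map_centralizer_singleton (MulAut.conj y) c
      have h1 : y * a * y⁻¹ ∈ E' := by
        rw [hE', ← hLL, ← CosetGraph.SylowIn.pCoreOf_map 2 L (MulAut.conj y).toMonoidHom
          (MulAut.conj y).injective]
        exact ⟨a, haE, rfl⟩
      have h2 := hconjD y hyP a (Or.inl rfl)
      rw [hyi] at h1 h2
      have h3 : Commute (y * a * y) b := by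
        rw [hE', ← s.pair.symm.inf_centralizer_eq hG] at h1
        exact (Subgroup.mem_centralizer_iff.1 h1.2 b s.bw).symm
      have hne : ∀ r, r = 1 ∨ r = w → y * a * y ≠ r := by
        intro r hr e
        have e1 : a = y * r * y := by
          rw [← e, show y * (y * a * y) * y = y * y * a * (y * y) by group, hy2, one_mul, mul_one]
        rcases hr with r' | r' <;> rw [r'] at e1
        · exact s.a1 (by rw [e1, mul_one, hy2])
        · refine s.az hG ?_
          rw [e1]
          have := hzcen y hyP
          rwa [hyi] at this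
      rcases s.toShape.closure_cases hG h2 with (e | e | e | e) | (e | e | e | e)
      · exact absurd e (hne 1 (Or.inl rfl))
      · exact absurd e (hne w (Or.inr rfl))
      · exfalso
        rw [e] at h3
        have := h3.mul_left (Commute.refl b).inv_left
        rw [mul_inv_cancel_right] at this
        exact s.nc this.eq
      · exfalso
        rw [e] at h3
        have h4 := h3.mul_left (show Commute w b from (s.z_comm hG s.bT).symm)
        rw [mul_assoc, s.zz, mul_one] at h4
        have := h4.mul_left (Commute.refl b).inv_left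
        rw [mul_inv_cancel_right] at this
        exact s.nc this.eq
      · exact absurd (e ▸ h3.eq) s.nc
      · exfalso
        rw [e] at h3
        have h4 := h3.mul_left (show Commute w b from (s.z_comm hG s.bT).symm)
        rw [mul_assoc, s.zz, mul_one] at h4
        exact s.nc h4.eq
      · exact Or.inl e
      · exact Or.inr e
    have hyy : ∀ v, y * (y * v * y) * y = v := fun v => by
      rw [show y * (y * v * y) * y = y * y * v * (y * y) by group, hy2, one_mul, mul_one]
    -- `M = D ∪ D y c`
    have hDN : y * c ∈ (P : Subgroup G) := mul_mem hyP hcP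
    set M : Subgroup ↥(P : Subgroup G) :=
      (D.subgroupOf (P : Subgroup G)) ⊔ Subgroup.zpowers ⟨y * c, hDN⟩ with hM
    have hyc2 : y * c * (y * c) = w := by
      calc y * c * (y * c) = (y * c * y) * c := by group
        _ = c * w * c := by rw [hyc]
        _ = c * (c * w) := by rw [mul_assoc, ← s.z_comm hG s.cT]
        _ = w := by rw [← mul_assoc, s.c2, one_mul]
    have hMmem : ∀ m ∈ M, (m : G) ∈ D ∨ (m : G) * (y * c) ∈ D := by
      intro m hm
      obtain ⟨d, hd, e, he, rfl⟩ := Subgroup.mem_sup_of_normal_left.1 hm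
      obtain ⟨k, rfl⟩ := Subgroup.mem_zpowers_iff.1 he
      have hwD : ∀ i : ℤ, w ^ i ∈ D := fun i => zpow_mem (by
        rw [← s.ab_sq hG]
        exact mul_mem (mul_mem (Subgroup.subset_closure (Or.inl rfl)) (Subgroup.subset_closure (Or.inr rfl)))
          (mul_mem (Subgroup.subset_closure (Or.inl rfl)) (Subgroup.subset_closure (Or.inr rfl)))) i
      rw [Subgroup.coe_mul, Subgroup.coe_zpow]
      rcases Int.even_or_odd' k with ⟨i, rfl | rfl⟩
      · left
        rw [zpow_mul, zpow_two, hyc2]
        exact mul_mem hd (hwD i)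
      · right
        rw [zpow_add, zpow_mul, zpow_two, zpow_one, hyc2, mul_assoc, mul_assoc, hyc2]
        exact mul_mem hd (mul_mem (hwD i) (by simpa using hwD 1))
    have hinvM : ∀ m ∈ M, (m : G) * m = 1 → (m : G) ∈ D := by
      intro m hm hm2
      refine (hMmem m hm).resolve_right fun hd => ?_
      set d := (m : G) * (y * c) with hd'
      have hm' : (m : G) = d * (c * y) := by
        rw [hd', show (m : G) * (y * c) * (c * y) = m * y * (c * c) * y by group, s.c2, mul_one,
          mul_assoc, hy2, mul_one]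
      have hdT : d ∈ T := s.toShape.closure_le hd
      have hdy : d * (y * d * y) = w := by
        have h1 : d * (c * y) * (d * (c * y)) = 1 := hm' ▸ hm2
        have h3 : Commute c d := (s.c_comm hG hdT).symm
        have hwy : y * w = w * y := (zc_comm hw hyP)
        have e1 : d * (c * y) * (d * (c * y)) = d * (c * (y * d * y) * (y * c * y)) := by
          calc d * (c * y) * (d * (c * y)) = d * (c * (y * d * (1 : G)) * (c * y)) := by group
            _ = d * (c * (y * d * (y * y)) * (c * y)) := by rw [hy2]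
            _ = _ := by group
        have hydT : y * d * y ∈ T := by
          have := (Subgroup.mem_normalizer_iff.1 hyN d).1 hdT
          rwa [hyi] at this
        rw [e1, hyc, ← s.c_comm hG hydT,
          show d * (y * d * y * c * (c * w)) = d * (y * d * y) * (c * c) * w by group, s.c2, mul_one] at h1
        rw [eq_inv_of_mul_eq_one_left h1]
        exact inv_eq_of_mul_eq_one_right s.zz
      -- `b' := y a y`
      obtain ⟨b', hb', hb'nc, hb'sq⟩ : ∃ b', y * a * y = b' ∧ a * b' ≠ b' * a ∧
          a * b' * (a * b') = w := by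
        rcases hya with e | e
        · exact ⟨b, e, s.nc, s.ab_sq hG⟩
        · refine ⟨b * w, e, fun e' => s.nc ?_, ?_⟩
          · have h4 : Commute a (b * w) := e'
            have := h4.mul_right (show Commute a w from s.z_comm hG s.aT)
            rw [mul_assoc, s.zz, mul_one] at this
            exact this.eq
          · rw [show a * (b * w) * (a * (b * w)) = a * b * (w * (a * b)) * w by group,
              ← s.z_comm hG (mul_mem s.aT s.bT),
              show a * b * (a * b * w) * w = a * b * (a * b) * (w * w) by group, s.ab_sq hG, s.zz,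
              mul_one]
      have hb'T : b' ∈ T := by
        rw [← hb', show y * a * y = y * a * y⁻¹ by rw [hyi]]
        exact (Subgroup.mem_normalizer_iff.1 hyN a).1 s.aT
      have hyb : y * b' * y = a := by rw [← hb']; exact hyy a
      have hb'2 : b' * b' = 1 := by
        rw [← hb', show y * a * y * (y * a * y) = y * a * (y * y) * a * y by group, hy2, mul_one,
          show y * a * a * y = y * (a * a) * y by group, s.aa, mul_one, hy2]
      have hwy : y * w * y = w := by
        have := hzcen y hyP
        rwa [hyi] at this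
      have hsplitd : ∀ u v, y * (u * v) * y = (y * u * y) * (y * v * y) := fun u v => by
        rw [show (y * u * y) * (y * v * y) = y * u * (y * y) * v * y by group, hy2, mul_one]; group
      have hbw : b = b' ∨ b = b' * w := by
        rcases hya with e | e
        · exact Or.inl (e.symm.trans hb')
        · right; rw [← hb', e, mul_assoc, s.zz, mul_one]
      -- all cases of `d`
      have hcase : ∀ d0, (d0 = 1 ∨ d0 = a ∨ d0 = b' ∨ d0 = a * b') →
          d0 * (y * d0 * y) ≠ w ∧ (d0 * w) * (y * (d0 * w) * y) ≠ w := by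
        intro d0 hd0
        have hd0T : d0 ∈ T := by
          rcases hd0 with e | e | e | e <;> rw [e]
          exacts [one_mem _, s.aT, hb'T, mul_mem s.aT hb'T]
        have hA : d0 * (y * d0 * y) ≠ w := by
          rcases hd0 with e0 | e0 | e0 | e0 <;> rw [e0]
          · rw [mul_one, hy2, one_mul]; exact fun e => s.z1 e.symm
          · rw [hb']
            intro e
            rw [e] at hb'sq
            exact s.z1 (by rw [s.zz] at hb'sq; exact hb'sq.symm)
          · rw [hyb]
            intro e
            have e1 : b' = w * a := by rw [← e, mul_assoc, s.aa, mul_one]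
            refine hb'nc ?_
            rw [e1, mul_assoc, ← mul_assoc a, s.z_comm hG s.aT, mul_assoc]
          · rw [hsplitd, hb', hyb, show a * b' * (b' * a) = a * (b' * b') * a by group, hb'2, mul_one,
              s.aa]
            exact fun e => s.z1 e.symm
        refine ⟨hA, ?_⟩
        rw [hsplitd, hwy,
          show d0 * w * (y * d0 * y * w) = d0 * (w * (y * d0 * y)) * w by group,
          ← s.z_comm hG (by
            have := (Subgroup.mem_normalizer_iff.1 hyN d0).1 hd0T
            rwa [hyi] at this),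
          show d0 * (y * d0 * y * w) * w = d0 * (y * d0 * y) * (w * w) by group, s.zz, mul_one]
        exact hA
      have hgen : ∃ d0, (d0 = 1 ∨ d0 = a ∨ d0 = b' ∨ d0 = a * b') ∧ (d = d0 ∨ d = d0 * w) := by
        rcases s.toShape.closure_cases hG hd with (e | e | e | e) | (e | e | e | e)
        · exact ⟨1, Or.inl rfl, Or.inl e⟩
        · exact ⟨1, Or.inl rfl, Or.inr (by rw [e, one_mul])⟩
        · refine ⟨a * b', Or.inr (Or.inr (Or.inr rfl)), ?_⟩
          rcases hbw with r | r <;> rw [r] at e
          · exact Or.inl e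
          · exact Or.inr (by rw [e, mul_assoc])
        · refine ⟨a * b', Or.inr (Or.inr (Or.inr rfl)), ?_⟩
          rcases hbw with r | r <;> rw [r] at e
          · exact Or.inr e
          · refine Or.inl (e.trans ?_)
            rw [← mul_assoc, mul_assoc _ w w, s.zz, mul_one]
        · exact ⟨a, Or.inr (Or.inl rfl), Or.inl e⟩
        · exact ⟨a, Or.inr (Or.inl rfl), Or.inr e⟩
        · refine ⟨b', Or.inr (Or.inr (Or.inl rfl)), ?_⟩
          rcases hbw with r | r <;> rw [r] at e
          · exact Or.inl e
          · exact Or.inr e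
        · refine ⟨b', Or.inr (Or.inr (Or.inl rfl)), ?_⟩
          rcases hbw with r | r <;> rw [r] at e
          · exact Or.inr e
          · refine Or.inl (e.trans ?_)
            rw [mul_assoc, s.zz, mul_one]
      obtain ⟨d0, hd0, e | e⟩ := hgen
      · exact (hcase d0 hd0).1 (e ▸ hdy)
      · exact (hcase d0 hd0).2 (e ▸ hdy)
    have hcM : (⟨c, hcP⟩ : ↥(P : Subgroup G)) ∉ M := fun h =>
      s.c_notMem hG (hinvM _ h s.c2)
    have hMidx : M.index = 2 := by
      have hle : D.subgroupOf (P : Subgroup G) ≤ M := le_sup_left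
      have hlt : D.subgroupOf (P : Subgroup G) < M := by
        refine lt_of_le_of_ne hle fun e => ?_
        have h1 : (⟨y * c, hDN⟩ : ↥(P : Subgroup G)) ∈ D.subgroupOf (P : Subgroup G) :=
          e ▸ Subgroup.mem_sup_right (Subgroup.mem_zpowers _)
        have h2 := s.toShape.closure_le (Subgroup.mem_subgroupOf.1 h1)
        refine hyT ?_
        have := mul_mem h2 s.cT
        rwa [mul_assoc, s.c2, mul_one] at this
      have h4 := Subgroup.index_dvd_of_le hle
      rw [hDidx] at h4
      have hne4 : M.index ≠ 4 := fun e => hlt.ne (Subgroup.eq_of_le_of_card_ge hle (by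
        have h5 := M.card_mul_index
        have h6 := (D.subgroupOf (P : Subgroup G)).card_mul_index
        rw [e] at h5
        rw [hDidx] at h6
        omega))
      have hne1 : M.index ≠ 1 := fun e => hcM (by
        rw [Subgroup.index_eq_one.1 e]; exact Subgroup.mem_top _)
      have := Nat.le_of_dvd (by norm_num) h4
      interval_cases h : M.index <;> omega
    haveI : M.Normal := Subgroup.normal_of_index_eq_two hMidx
    refine pResidual_ne_top_of_controlled P M ⟨⟨fun u v => ?_⟩⟩ s.c2 hcP hcM (fun g hg => ?_)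
    · exact (isCyclic_of_prime_card (p := 2) (α := ↥(P : Subgroup G) ⧸ M) hMidx).commutative.is_comm.comm u v
    · refine (Subgroup.mul_mem_iff_of_index_two hMidx).2 (iff_of_false ?_ hcM)
      rw [inv_mem_iff]
      intro h
      refine hzclass (hinvM _ h ?_)
      show g * c * g⁻¹ * (g * c * g⁻¹) = 1
      rw [show g * c * g⁻¹ * (g * c * g⁻¹) = g * (c * c) * g⁻¹ by group, s.c2]; group
  · push Not at hy
    haveI := hDn
    refine pResidual_ne_top_of_controlled P (D.subgroupOf (P : Subgroup G))
      (IsPGroup.isMulCommutative_of_card_eq_prime_sq (p := 2) ((hDidx.trans (by norm_num)))) s.c2 hcP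
      (fun h => s.c_notMem hG (Subgroup.mem_subgroupOf.1 h)) (fun g hg => ?_)
    rw [Subgroup.mem_subgroupOf]
    show (g * c * g⁻¹)⁻¹ * c ∈ D
    have hinv : (g * c * g⁻¹)⁻¹ = g * c * g⁻¹ := by
      rw [mul_inv_rev, mul_inv_rev, inv_inv, inv_eq_of_mul_eq_one_right s.c2, mul_assoc]
    rw [hinv]
    exact (s.mem_cases hG (hy g hg)).resolve_left fun h => hzclass h

end Cfsg.Agent.Lib.SolvCent.Locals
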