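import Cfsg.Agent.Lib.SolvCent.Signalizer
import Cfsg.Agent.Lib.Involutions.NormalFour
import Cfsg.Agent.Lib.HalfTransitive.MaxClass

/-!
# The case `|Ω₁(Z(S))| = 2` with `z` not weakly closed

Owner: helper2. Namespace `Cfsg.Agent.Lib.SolvCent`.
-/

set_option autoImplicit false
set_option linter.style.haveILetI false

open Cfsg

namespace Cfsg.Agent.Lib.SolvCent

variable {G : Type*} [Group G]

/-- The subgroup `{1, a, b, ab}` for commuting involutions. -/
def four (a b : G) (ha : a * a = 1) (hb : b * b = 1) (hab : a * b = b * a) : Subgroup G where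
  carrier := {x | x = 1 ∨ x = a ∨ x = b ∨ x = a * b}
  one_mem' := Or.inl rfl
  mul_mem' := by
    have e1 : a * (a * b) = b := by rw [← mul_assoc, ha, one_mul]
    have e2 : b * (a * b) = a := by rw [← mul_assoc, ← hab, mul_assoc, hb, mul_one]
    have e3 : a * b * a = b := by rw [mul_assoc, ← hab, e1]
    have e4 : a * b * b = a := by rw [mul_assoc, hb, mul_one]
    have e5 : a * b * (a * b) = 1 := by rw [← mul_assoc, e3, hb]
    have e6 : b * a = a * b := hab.symm
    rintro x y (rfl | rfl | rfl | rfl) (rfl | rfl | rfl | rfl) <;>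
      simp only [Set.mem_ofPred_eq, one_mul, mul_one, ha, hb, e1, e2, e3, e4, e5, e6,
        true_or, or_true]
  inv_mem' := by
    have hai : a⁻¹ = a := inv_eq_of_mul_eq_one_right ha
    have hbi : b⁻¹ = b := inv_eq_of_mul_eq_one_right hb
    rintro x (rfl | rfl | rfl | rfl) <;> simp [hai, hbi, mul_inv_rev, hab]

theorem mem_four {a b : G} {ha : a * a = 1} {hb : b * b = 1} {hab : a * b = b * a} {x : G} :
    x ∈ four a b ha hb hab ↔ x = 1 ∨ x = a ∨ x = b ∨ x = a * b := Iff.rfl

theorem elemAb_four {a b : G} (ha : a * a = 1) (hb : b * b = 1) (hab : a * b = b * a) :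
    IsElementaryAbelian 2 (four a b ha hb hab) := by
  have hc : Commute a b := hab
  have ha' : Commute a (a * b) := (Commute.refl a).mul_right hc
  have hb' : Commute b (a * b) := hc.symm.mul_right (Commute.refl b)
  refine PGroups.elemAb_mk ?_ ?_
  · rintro x (rfl | rfl | rfl | rfl) y (rfl | rfl | rfl | rfl) <;>
      first
        | simp only [one_mul, mul_one]
        | exact hab
        | exact hab.symm
        | exact ha'.eq
        | exact ha'.symm.eq
        | exact hb'.eq
        | exact hb'.symm.eq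
  · rintro x (rfl | rfl | rfl | rfl) <;> rw [pow_two]
    · rw [one_mul]
    · exact ha
    · exact hb
    · rw [show a * b * (a * b) = a * (b * a) * b by group, ← hab, ← mul_assoc, ha, one_mul, hb]

theorem four_le_card_four [Finite G] {a b : G} (ha : a * a = 1) (hb : b * b = 1)
    (hab : a * b = b * a) (ha1 : a ≠ 1) (hb1 : b ≠ 1) (hne : a ≠ b) :
    4 ≤ Nat.card ↥(four a b ha hb hab) := by
  have hset : ((four a b ha hb hab : Subgroup G) : Set G) = {1, a, b, a * b} := rfl
  show 4 ≤ Nat.card ((four a b ha hb hab : Subgroup G) : Set G)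
  rw [Nat.card_coe_set_eq, hset]
  have e1 : (1 : G) ≠ a * b := fun h => hne (by
    rw [← inv_eq_of_mul_eq_one_right ha]; exact inv_eq_of_mul_eq_one_right h.symm)
  have e2 : a ≠ a * b := fun h => hb1 (mul_eq_left.1 h.symm)
  have e3 : b ≠ a * b := fun h => ha1 (mul_eq_right.1 h.symm)
  rw [Set.ncard_insert_of_notMem (by simp [Ne.symm ha1, Ne.symm hb1, e1]),
    Set.ncard_insert_of_notMem (by simp [hne, e2]), Set.ncard_pair e3]

/-- The standing data: `Ω₁(Z(S)) = ⟨z⟩` and `z' = h z h⁻¹ ∈ S` differs from `z`. -/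
structure Data (hyp : Hyp G) (S : Sylow 2 G) (z h : G) : Prop where
  hz : z ∈ zc (S : Subgroup G)
  hz1 : z ≠ 1
  hgen : ∀ w ∈ zc (S : Subgroup G), w = 1 ∨ w = z
  hzH : z ∈ pResidual 2 G
  hh : h ∈ pResidual 2 G
  hz' : h * z * h⁻¹ ∈ (S : Subgroup G)
  hne : h * z * h⁻¹ ≠ z

section
variable [Finite G] {hyp : Hyp G} {S : Sylow 2 G} {z h : G}

theorem Data.z_mul (d : Data hyp S z h) : z * z = 1 := by
  rw [← pow_two]; exact (mem_zc.1 d.hz).2.2

theorem Data.comm (d : Data hyp S z h) {s : G} (hs : s ∈ (S : Subgroup G)) : s * z = z * s :=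
  zc_comm d.hz hs

theorem Data.orderOf_z (d : Data hyp S z h) : orderOf z = 2 :=
  orderOf_eq_prime (mem_zc.1 d.hz).2.2 d.hz1

theorem Data.z'_mul (d : Data hyp S z h) : h * z * h⁻¹ * (h * z * h⁻¹) = 1 := by
  rw [show h * z * h⁻¹ * (h * z * h⁻¹) = h * (z * z) * h⁻¹ by group, d.z_mul]; group

theorem Data.z'_ne_one (d : Data hyp S z h) : h * z * h⁻¹ ≠ 1 := fun e =>
  d.hz1 (conj_eq_one_iff.1 e)

theorem Data.z'_resid (d : Data hyp S z h) : h * z * h⁻¹ ∈ pResidual 2 G :=
  (pResidual 2 G).mul_mem ((pResidual 2 G).mul_mem d.hh d.hzH) ((pResidual 2 G).inv_mem d.hh)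

theorem Data.cr_le_centralizer (d : Data hyp S z h) :
    cr z ≤ Subgroup.centralizer ((S : Subgroup G) : Set G) :=
  Cfsg.Agent.Lib.SolvCent.cr_le_centralizer hyp S d.hz fun w hw => by
    rcases d.hgen w hw with rfl | rfl
    · exact one_mem _
    · exact Subgroup.mem_zpowers _

theorem Data.cr_eq_of_card (d : Data hyp S z h) {u : G} (hu : u ∈ (S : Subgroup G))
    (huo : orderOf u = 2) (hcard : Nat.card ↥(cr u) = Nat.card ↥(cr z)) : cr u = cr z := by
  refine (Subgroup.eq_of_le_of_card_ge ?_ hcard.le).symm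
  intro x hx
  exact cr_balance hyp d.orderOf_z huo (d.comm hu).symm ⟨hx, mem_cent_iff.2
    (Subgroup.mem_centralizer_iff.1 (d.cr_le_centralizer hx) u hu).symm⟩

/-- All cores of involutions in `R` have the order of `O(C(z))`: the conclusion. -/
theorem Data.conclude (d : Data hyp S z h)
    (hall : ∀ u ∈ (S : Subgroup G), u ∈ pResidual 2 G → orderOf u = 2 →
      Nat.card ↥(cr u) = Nat.card ↥(cr z)) :
    (∀ u ∈ (S : Subgroup G), u ∈ pResidual 2 G → orderOf u = 2 → cr u = ⊥) ∨
      ∃ N : Subgroup ↥(pResidual 2 G), IsStronglyEmbedded N := by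
  haveI : Fact (Nat.Prime 2) := ⟨Nat.prime_two⟩
  by_cases hbot : cr z = ⊥
  · exact Or.inl fun u hu huH huo => (d.cr_eq_of_card hu huo (hall u hu huH huo)).trans hbot
  refine Or.inr (exists_stronglyEmbedded hyp S (Subgroup.normalizer (cr z : Set G))
    (fun s hs => cr_normalized (d.comm hs)) ?_ ?_)
  · intro htop
    haveI : (cr z).Normal := Subgroup.normalizer_eq_top_iff.1 htop
    exact hbot (le_bot_iff.1 (hyp.core ▸ Cores.le_pPrimeCore_of_not_dvd (cr_odd z)))
  · intro u u' g hu huH huo hu' he
    have hu'H : u' ∈ pResidual 2 G := he ▸ Transfer.PResidual.pResidual_normal.conj_mem _ huH g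
    have hu'o : orderOf u' = 2 := by rw [← he, Involutions.Basic.orderOf_conj_eq]; exact huo
    have h1 := d.cr_eq_of_card hu huo (hall u hu huH huo)
    have h2 := d.cr_eq_of_card hu' hu'o (hall u' hu' hu'H hu'o)
    rw [← he, cr_conj, h1] at h2
    exact Subgroup.mem_normalizer_iff_map_conj_eq.2 h2

/-- Data of a normal four subgroup `{1, z, t, tz}` of `S`. -/
structure Four (S : Sylow 2 G) (z t : G) : Prop where
  ht : t ∈ (S : Subgroup G)
  ht2 : t * t = 1
  ht1 : t ≠ 1
  htz : t ≠ z
  hconj : ∀ s ∈ (S : Subgroup G), s * t * s⁻¹ = t ∨ s * t * s⁻¹ = t * z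

theorem Data.exists_four (d : Data hyp S z h) (U : Subgroup ↥(S : Subgroup G)) [hUn : U.Normal]
    (hcard : Nat.card ↥U = 4) (hexp : ∀ u ∈ U, u ^ 2 = 1) : ∃ t, Four S z t := by
  classical
  set U' := U.map (S : Subgroup G).subtype with hU'
  have hU'S : U' ≤ (S : Subgroup G) := Subgroup.map_subtype_le U
  have hU'card : Nat.card ↥U' = 4 := by
    rw [hU', Subgroup.card_map_of_injective (S : Subgroup G).subtype_injective, hcard]
  have hU'2 : ∀ u ∈ U', u * u = 1 := by
    rintro _ ⟨u, hu, rfl⟩
    have := congrArg Subtype.val (hexp u hu)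
    rw [Subgroup.coe_pow, pow_two] at this
    exact this
  have hU'n : ∀ s ∈ (S : Subgroup G), ∀ u ∈ U', s * u * s⁻¹ ∈ U' := by
    rintro s hs _ ⟨u, hu, rfl⟩
    exact ⟨_, hUn.conj_mem u hu ⟨s, hs⟩, rfl⟩
  have hne : U' ≠ ⊥ := fun e => by rw [e, Subgroup.card_bot] at hU'card; omega
  obtain ⟨w, hw, hwU, hw1⟩ := exists_mem_zc S.2 hU'S
    (fun s hs => Subgroup.mem_normalizer_iff.2 fun x => ⟨hU'n s hs x, fun hx => by
      have := hU'n _ (inv_mem hs) _ hx
      simpa [mul_assoc] using this⟩) hne
  obtain rfl : w = z := (d.hgen w hw).resolve_left hw1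
  obtain ⟨t, htU, ht⟩ : ∃ t ∈ U', t ∉ ({1, w} : Set G) := by
    by_contra hcon
    push Not at hcon
    have h1 := Set.ncard_le_ncard (s := (U' : Set G)) (t := {1, w}) hcon
    rw [← Nat.card_coe_set_eq, Set.ncard_pair (Ne.symm hw1)] at h1
    have : Nat.card ↥U' ≤ 2 := h1
    omega
  simp only [Set.mem_insert_iff, Set.mem_singleton_iff, not_or] at ht
  refine ⟨t, hU'S htU, hU'2 t htU, ht.1, ht.2, fun s hs => ?_⟩
  have hts : s * t * s⁻¹ ∈ U' := hU'n s hs t htU
  have hw' : s * w * s⁻¹ = w := by rw [d.comm hs]; group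
  by_contra hcon
  rw [not_or] at hcon
  have hlist : ({1, w, t, t * w, s * t * s⁻¹} : Set G) ⊆ (U' : Set G) := by
    rintro x (rfl | rfl | rfl | rfl | rfl)
    exacts [one_mem _, hwU, htU, U'.mul_mem htU hwU, hts]
  have h1 := Set.ncard_le_ncard hlist
  rw [← Nat.card_coe_set_eq (U' : Set G)] at h1
  have h1' : ({1, w, t, t * w, s * t * s⁻¹} : Set G).ncard ≤ 4 :=
    h1.trans (le_of_eq hU'card)
  have f1 : (1 : G) ≠ t * w := fun e => ht.2 (by
    have h3 := inv_eq_of_mul_eq_one_right e.symm
    rwa [inv_eq_of_mul_eq_one_right (hU'2 t htU)] at h3)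
  have f2 : w ≠ t * w := fun e => ht.1 (mul_eq_right.1 e.symm)
  have f3 : t ≠ t * w := fun e => hw1 (mul_eq_left.1 e.symm)
  have f4 : (1 : G) ≠ s * t * s⁻¹ := fun e => ht.1 (conj_eq_one_iff.1 e.symm)
  have f5 : w ≠ s * t * s⁻¹ := fun e => ht.2 (by
    calc t = s⁻¹ * (s * t * s⁻¹) * s := by group
      _ = s⁻¹ * (s * w * s⁻¹) * s := by rw [← e, hw']
      _ = w := by group)
  rw [Set.ncard_insert_of_notMem (by simp [Ne.symm hw1, Ne.symm ht.1, f1, f4]),
    Set.ncard_insert_of_notMem (by simp [Ne.symm ht.2, f2, f5]),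
    Set.ncard_insert_of_notMem (by simp [f3, Ne.symm hcon.1]),
    Set.ncard_pair (Ne.symm hcon.2)] at h1'
  omega

theorem Four.tz_comm (d : Data hyp S z h) {t : G} (f : Four S z t) : z * t = t * z :=
  (d.comm f.ht).symm

/-- An element of `S` either centralizes `t` or sends it to `tz`; two of the second kind compose. -/
theorem Four.mul_fix (d : Data hyp S z h) {t : G} (f : Four S z t) {a b : G}
    (ha : a ∈ (S : Subgroup G)) (hb : b ∈ (S : Subgroup G)) (ha' : a * t ≠ t * a)
    (hb' : b * t ≠ t * b) : a * b * t = t * (a * b) := by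
  have key : ∀ s ∈ (S : Subgroup G), s * t ≠ t * s → s * t * s⁻¹ = t * z := fun s hs hs' =>
    (f.hconj s hs).resolve_left fun e => hs' (mul_inv_eq_iff_eq_mul.1 e)
  apply mul_inv_eq_iff_eq_mul.1
  calc a * b * t * (a * b)⁻¹ = a * (b * t * b⁻¹) * a⁻¹ := by group
    _ = a * (t * z) * a⁻¹ := by rw [key b hb hb']
    _ = a * t * a⁻¹ * (a * z * a⁻¹) := by group
    _ = t * z * z := by rw [key a ha ha', show a * z * a⁻¹ = z by rw [d.comm ha]; group]
    _ = t := by rw [mul_assoc, d.z_mul, mul_one]

theorem Four.exists_moving (d : Data hyp S z h) {t : G} (f : Four S z t) :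
    ∃ s ∈ (S : Subgroup G), s * t * s⁻¹ = t * z ∧ s * t ≠ t * s := by
  by_contra hcon
  push Not at hcon
  have : t ∈ zc (S : Subgroup G) := mem_zc.2 ⟨f.ht, fun s hs => by
    rcases f.hconj s hs with e | e
    · exact mul_inv_eq_iff_eq_mul.1 e
    · exact hcon s hs e, by rw [pow_two]; exact f.ht2⟩
  rcases d.hgen t this with e | e
  · exact f.ht1 e
  · exact f.htz e

/-- Involutions outside `C(t)` in `R` are `H`-conjugate to involutions of `R ∩ C(t)`. -/
theorem Four.transfer (d : Data hyp S z h) {t : G} (f : Four S z t) {u : G}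
    (hu : u ∈ (S : Subgroup G)) (huH : u ∈ pResidual 2 G) (huo : orderOf u = 2)
    (hnc : u * t ≠ t * u) :
    ∃ v ∈ (S : Subgroup G), v ∈ pResidual 2 G ∧ v * t = t * v ∧ orderOf v = 2 ∧
      Nat.card ↥(cr u) = Nat.card ↥(cr v) := by
  obtain ⟨g, -, hg⟩ := SolvCent.transfer S
    (M := (S : Subgroup G) ⊓ pResidual 2 G ⊓ Subgroup.centralizer ({t} : Set G)) inf_le_left
    (g0 := u) ⟨hu, huH⟩ (fun h' => hnc (mem_cent_iff.1 h'.2)) (fun a ha => by
      by_cases hat : a * t = t * a
      · exact Or.inl ⟨ha, mem_cent_iff.2 hat⟩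
      · exact Or.inr ⟨Subgroup.mul_mem _ ha ⟨hu, huH⟩,
          mem_cent_iff.2 (f.mul_fix d ha.1 hu hat hnc)⟩) huo huH
  exact ⟨_, hg.1.1, hg.1.2, mem_cent_iff.1 hg.2,
    (Involutions.Basic.orderOf_conj_eq g u).trans huo, (card_cr_conj g u).symm⟩

/-- The case of 2-rank at least three. -/
theorem Four.big_case (d : Data hyp S z h) {t : G} (f : Four S z t)
    (hbig : ∃ E, Big (S : Subgroup G) E) {u : G} (hu : u ∈ (S : Subgroup G))
    (huH : u ∈ pResidual 2 G) (huo : orderOf u = 2) :
    Nat.card ↥(cr u) = Nat.card ↥(cr z) := by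
  haveI : Fact (Nat.Prime 2) := ⟨Nat.prime_two⟩
  set A := four z t d.z_mul f.ht2 (f.tz_comm d) with hA
  have hAe : IsElementaryAbelian 2 A := elemAb_four _ _ _
  have hA4 : 4 ≤ Nat.card ↥A := four_le_card_four _ _ _ d.hz1 f.ht1 (Ne.symm f.htz)
  have hzS : z ∈ (S : Subgroup G) := zc_le _ d.hz
  have hAS : A ≤ (S : Subgroup G) := by
    rintro x (rfl | rfl | rfl | rfl)
    exacts [one_mem _, hzS, f.ht, Subgroup.mul_mem _ hzS f.ht]
  have hAcomm : ∀ x, x ∈ (S : Subgroup G) → x * t = t * x → ∀ a ∈ A, a * x = x * a := by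
    intro x hx hxt
    rintro a (rfl | rfl | rfl | rfl)
    · rw [one_mul, mul_one]
    · exact (d.comm hx).symm
    · exact hxt.symm
    · exact ((show Commute x z from d.comm hx).mul_right (show Commute x t from hxt)).symm.eq
  have hlink : ∀ E, Big (S : Subgroup G) E →
      wsup E = wsup A ∧ ∃ B, Big (S : Subgroup G) B ∧ A ≤ B := by
    rintro E ⟨hE, hES, h8⟩
    set F := E ⊓ Subgroup.centralizer ({t} : Set G) with hF
    have h4 : 4 ≤ Nat.card ↥F := by
      by_cases hEF : E ≤ Subgroup.centralizer ({t} : Set G)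
      · rw [hF, inf_eq_left.2 hEF]; omega
      obtain ⟨e0, he0, he0'⟩ := SetLike.not_le_iff_exists.1 hEF
      have hidx : F.relIndex E = 2 := Subgroup.relIndex_eq_two_iff.2 ⟨e0, he0, fun b hb => by
        by_cases hbt : b * t = t * b
        · refine Or.inr ⟨⟨hb, mem_cent_iff.2 hbt⟩, fun hm => he0' ?_⟩
          have := (Subgroup.centralizer ({t} : Set G)).mul_mem
            ((Subgroup.centralizer ({t} : Set G)).inv_mem (mem_cent_iff.2 hbt)) hm.2
          simpa using this
        · exact Or.inl ⟨⟨E.mul_mem hb he0, mem_cent_iff.2 (f.mul_fix d (hES hb) (hES he0) hbt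
            (fun e => he0' (mem_cent_iff.2 e)))⟩, fun hm => hbt (mem_cent_iff.1 hm.2)⟩⟩
      have h1 := (F.subgroupOf E).card_mul_index
      rw [Nat.card_congr (Subgroup.subgroupOfEquivOfLe inf_le_left).toEquiv] at h1
      change Nat.card ↥F * F.relIndex E = _ at h1
      rw [hidx] at h1
      omega
    obtain ⟨h1, B, hB, hB8, hAB, -, hBle⟩ := wsup_linked hyp hE h8 (inf_le_left : F ≤ E) h4 hAe
      hA4 (fun x hx a ha => (hAcomm x (hES hx.1) (mem_cent_iff.1 hx.2) a ha).symm)
    exact ⟨h1, B, ⟨hB, hBle.trans (sup_le hES hAS), hB8⟩, hAB⟩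
  set W := wsup A with hW
  obtain ⟨E0, hE0⟩ := hbig
  obtain ⟨hWE0, B0, hB0, hAB0⟩ := hlink E0 hE0
  have hWodd : ¬ 2 ∣ Nat.card ↥W := hWE0 ▸ (wsup_spec hyp hE0.1 hE0.2.2).1
  have hgood : ∀ v ∈ (S : Subgroup G), orderOf v = 2 → v * t = t * v →
      W ⊓ Subgroup.centralizer ({v} : Set G) = cr v := by
    intro v hv hvo hvt
    have hv1 : v ≠ 1 := fun e => by rw [e, orderOf_one] at hvo; norm_num at hvo
    obtain ⟨B, hB, hvB⟩ : ∃ B, Big (S : Subgroup G) B ∧ v ∈ B := by
      by_cases hvA : v ∈ A
      · exact ⟨B0, hB0, hAB0 hvA⟩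
      have hB := elemAb_sup_zpowers hAe (hvo ▸ pow_orderOf_eq_one v) (hAcomm v hv hvt)
      exact ⟨_, ⟨hB, sup_le hAS (Subgroup.zpowers_le.2 hv), eight_le hB
        (lt_of_le_of_ne le_sup_left fun e => hvA (e ▸ Subgroup.mem_sup_right
          (Subgroup.mem_zpowers v))) hA4⟩, Subgroup.mem_sup_right (Subgroup.mem_zpowers v)⟩
    rw [← (hlink B hB).1]
    exact (wsup_spec hyp hB.1 hB.2.2).2 v hvB hv1
  have hWz : W ⊓ Subgroup.centralizer ({z} : Set G) = cr z :=
    hgood z hzS d.orderOf_z (f.tz_comm d)
  have hSW : (S : Subgroup G) ≤ Subgroup.normalizer (W : Set G) := by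
    intro s hs
    rw [Subgroup.mem_normalizer_iff_map_conj_eq]
    refine (wsup_map A s).symm.trans (congrArg wsup ?_)
    refine Subgroup.eq_of_le_of_card_ge ?_
      (Subgroup.card_map_of_injective (MulAut.conj s).injective).ge
    have hsz : s * z * s⁻¹ = z := by rw [d.comm hs]; group
    have hst : s * t * s⁻¹ ∈ A := by
      rcases f.hconj s hs with e | e <;> rw [e]
      · exact Or.inr (Or.inr (Or.inl rfl))
      · exact Or.inr (Or.inr (Or.inr (f.tz_comm d).symm))
    rintro _ ⟨a, ha, rfl⟩
    show s * a * s⁻¹ ∈ A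
    rcases ha with rfl | rfl | rfl | rfl
    · rw [mul_one, mul_inv_cancel]; exact one_mem _
    · rw [hsz]; exact Or.inr (Or.inl rfl)
    · exact hst
    · rw [show s * (z * t) * s⁻¹ = s * z * s⁻¹ * (s * t * s⁻¹) by group, hsz]
      exact A.mul_mem (Or.inr (Or.inl rfl)) hst
  set z' := h * z * h⁻¹ with hz'
  -- `C_W(z') ≤ C(z)`
  have hWz' : W ⊓ Subgroup.centralizer ({z'} : Set G) ≤ cr z := by
    obtain ⟨Q, hQ⟩ := exists_sylow_map S h
    have hzcQ : zc (Q : Subgroup G) = (zc (S : Subgroup G)).map (MulAut.conj h).toMonoidHom := by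
      rw [hQ, zc_map]
    have hCN : Subgroup.centralizer ({z'} : Set G) ≤
        Subgroup.normalizer ((Q : Subgroup G) : Set G) := by
      refine le_trans ?_ (hyp.cz Q)
      intro x hx
      refine Subgroup.mem_centralizer_iff.2 fun w hw => ?_
      rw [hzcQ] at hw
      obtain ⟨y, hy, rfl⟩ := hw
      rcases d.hgen y hy with rfl | rfl
      · rw [map_one, one_mul, mul_one]
      · exact (mem_cent_iff.1 hx).symm
    have hzC : z ∈ Subgroup.centralizer ({z'} : Set G) := mem_cent_iff.2 (d.comm d.hz').symm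
    have hzQ : z ∈ (Q : Subgroup G) := le_of_le_normalizer Q
      (isPGroup_zpowers_invol (mem_zc.1 d.hz).2.2)
      (Subgroup.zpowers_le.2 (hCN hzC)) (Subgroup.mem_zpowers z)
    have hbot : W ⊓ (Q : Subgroup G) = ⊥ :=
      (Transfer.PResidual.disjoint_of_not_dvd hWodd Q.2).eq_bot
    intro x hx
    rw [← hWz]
    refine ⟨hx.1, mem_cent_iff.2 ?_⟩
    have h1 : x * z * x⁻¹ * z⁻¹ ∈ W ⊓ (Q : Subgroup G) := by
      refine ⟨?_, Subgroup.mul_mem _
        ((Subgroup.mem_normalizer_iff.1 (hCN hx.2) z).1 hzQ) (Subgroup.inv_mem _ hzQ)⟩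
      rw [show x * z * x⁻¹ * z⁻¹ = x * (z * x⁻¹ * z⁻¹) by group]
      exact W.mul_mem hx.1 ((Subgroup.mem_normalizer_iff.1 (hSW hzS) _).1 (W.inv_mem hx.1))
    rw [hbot, Subgroup.mem_bot, mul_inv_eq_one, mul_inv_eq_iff_eq_mul] at h1
    exact h1
  -- `W = O(C(z))`
  have hWeq : W = cr z := by
    set A' := four z z' d.z_mul d.z'_mul (d.comm d.hz').symm with hA'
    have hA'4 : 4 ≤ Nat.card ↥A' := four_le_card_four _ _ _ d.hz1 d.z'_ne_one (Ne.symm d.hne)
    have hA'e : IsElementaryAbelian 2 A' := elemAb_four _ _ _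
    have hA'S : A' ≤ (S : Subgroup G) := by
      rintro x (rfl | rfl | rfl | rfl)
      exacts [one_mem _, hzS, d.hz', Subgroup.mul_mem _ hzS d.hz']
    haveI := hA'e.1
    have hncyc : ¬ IsCyclic ↥A' := fun hcyc => by
      have := Nat.le_of_dvd (by norm_num) (PGroups.elemAb_card_dvd_of_isCyclic hA'e)
      omega
    have hcop : (Nat.card ↥A').Coprime (Nat.card ↥W) := by
      obtain ⟨m, hm⟩ := IsPGroup.iff_card.1 (PGroups.elemAb_isPGroup hA'e)
      rw [hm]; exact (Nat.prime_two.coprime_iff_not_dvd.2 hWodd).pow_left m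
    have hcent : W ≤ Subgroup.centralizer ({z * z'} : Set G) := by
      rw [← Coprime.iSup_centralizer_eq hncyc (hA'S.trans hSW) hcop]
      refine iSup₂_le fun e he => ?_
      have hX : cr z ≤ Subgroup.centralizer ({z * z'} : Set G) := fun x hx =>
        mem_cent_iff.2 (Subgroup.mem_centralizer_iff.1 (d.cr_le_centralizer hx) _
          (Subgroup.mul_mem _ hzS d.hz')).symm
      rcases he.1 with h' | rfl | rfl | rfl
      · exact absurd h' he.2
      · exact (le_of_eq hWz).trans hX
      · exact hWz'.trans hX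
      · exact inf_le_right
    set K := (S : Subgroup G) ⊓ Subgroup.centralizer (W : Set G) with hK
    have hKne : K ≠ ⊥ := fun e => by
      have h1 : z * z' ∈ K := ⟨Subgroup.mul_mem _ hzS d.hz',
        Subgroup.mem_centralizer_iff.2 fun w hw => mem_cent_iff.1 (hcent hw)⟩
      rw [e, Subgroup.mem_bot] at h1
      exact d.hne (by
        have := inv_eq_of_mul_eq_one_right h1
        rw [inv_eq_of_mul_eq_one_right d.z_mul] at this
        exact this.symm)
    obtain ⟨w, hw, hwK, hw1⟩ := exists_mem_zc S.2 (inf_le_left : K ≤ _) (fun s hs => by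
      refine Subgroup.mem_normalizer_iff.2 fun x => ?_
      have h1 := Subgroup.mem_normalizer_iff.1 (Subgroup.le_normalizer (H := (S : Subgroup G)) hs) x
      have h2 := Subgroup.mem_normalizer_iff.1
        (Balance.normalizer_le_normalizer_centralizer W (hSW hs)) x
      rw [Subgroup.mem_inf, Subgroup.mem_inf, ← h1, ← h2]) hKne
    obtain rfl : w = z := (d.hgen w hw).resolve_left hw1
    refine le_antisymm ?_ (hWz ▸ inf_le_left)
    intro x hx
    rw [← hWz]
    exact ⟨hx, mem_cent_iff.2 (Subgroup.mem_centralizer_iff.1 hwK.2 x hx)⟩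
  have hgood' : ∀ v ∈ (S : Subgroup G), orderOf v = 2 → v * t = t * v → cr v = cr z := by
    intro v hv hvo hvt
    rw [← hgood v hv hvo hvt, hWeq, inf_eq_left]
    exact fun x hx => mem_cent_iff.2
      (Subgroup.mem_centralizer_iff.1 (d.cr_le_centralizer hx) v hv).symm
  by_cases hut : u * t = t * u
  · rw [hgood' u hu huo hut]
  · obtain ⟨v, hv, -, hvt, hvo, hcard⟩ := f.transfer d hu huH huo hut
    rw [hcard, hgood' v hv hvo hvt]

/-- A conjugate of `z` has a core of the same order. -/
theorem Data.card_of_conj (d : Data hyp S z h) : Nat.card ↥(cr (h * z * h⁻¹)) = Nat.card ↥(cr z) :=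
  card_cr_conj h z

/-- An element of order at least four has a power whose order is exactly four. -/
theorem exists_order_four {S : Sylow 2 G} {c : G} (hc : c ∈ (S : Subgroup G)) (h2 : c * c ≠ 1) :
    ∃ k : ℕ, c ^ k * c ^ k ≠ 1 ∧ c ^ k * c ^ k * (c ^ k * c ^ k) = 1 := by
  obtain ⟨m, hm⟩ := IsPGroup.iff_orderOf.1 S.2 (⟨c, hc⟩ : ↥(S : Subgroup G))
  rw [Subgroup.orderOf_mk] at hm
  obtain ⟨j, rfl⟩ : ∃ j, m = j + 2 := by
    refine ⟨m - 2, ?_⟩
    by_contra hcon
    have hm' : m ≤ 1 := by omega
    refine h2 ?_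
    rw [← pow_two, ← orderOf_dvd_iff_pow_eq_one, hm]
    exact (pow_dvd_pow 2 hm').trans (by norm_num)
  refine ⟨2 ^ j, ?_, ?_⟩
  · rw [← pow_add]
    refine pow_ne_one_of_lt_orderOf (by positivity) ?_
    rw [hm, pow_add]
    have : 0 < 2 ^ j := by positivity
    omega
  · rw [← pow_add, ← pow_add, ← orderOf_dvd_iff_pow_eq_one, hm]
    exact dvd_of_eq (by ring)

/-- The case of 2-rank two with a normal four subgroup. -/
theorem Four.small_case (d : Data hyp S z h) {t : G} (f : Four S z t)
    (hno : ¬ ∃ E, Big (S : Subgroup G) E) {u : G} (hu : u ∈ (S : Subgroup G))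
    (huH : u ∈ pResidual 2 G) (huo : orderOf u = 2) :
    Nat.card ↥(cr u) = Nat.card ↥(cr z) := by
  haveI : Fact (Nat.Prime 2) := ⟨Nat.prime_two⟩
  have hzt := f.tz_comm d
  have hzS : z ∈ (S : Subgroup G) := zc_le _ d.hz
  set A := four z t d.z_mul f.ht2 hzt with hA
  have hAS : A ≤ (S : Subgroup G) := by
    rintro x (rfl | rfl | rfl | rfl)
    exacts [one_mem _, hzS, f.ht, Subgroup.mul_mem _ hzS f.ht]
  have hlist : ∀ v ∈ (S : Subgroup G), v * v = 1 → v * t = t * v → v ∈ A := by
    intro v hv hv2 hvt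
    refine mem_of_no_big hno (elemAb_four _ _ _) hAS
      (four_le_card_four _ _ _ d.hz1 f.ht1 (Ne.symm f.htz)) hv (by rw [pow_two]; exact hv2) ?_
    rintro a (rfl | rfl | rfl | rfl)
    · rw [one_mul, mul_one]
    · exact (d.comm hv).symm
    · exact hvt.symm
    · exact ((show Commute v z from d.comm hv).mul_right (show Commute v t from hvt)).symm.eq
  -- `tz` has the same core order as `t`
  have hPtz : Nat.card ↥(cr (z * t)) = Nat.card ↥(cr t) := by
    obtain ⟨s, -, hs, -⟩ := f.exists_moving d
    rw [hzt, ← hs, card_cr_conj]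
  -- the main claim: when `t ∈ H`, the core order of `t` is that of `z`
  have hmain : t ∈ pResidual 2 G → Nat.card ↥(cr t) = Nat.card ↥(cr z) := by
    intro htH
    set z' := h * z * h⁻¹ with hz'def
    by_cases hz't : z' * t = t * z'
    · rcases hlist z' d.hz' d.z'_mul hz't with e | e | e | e
      · exact absurd e d.z'_ne_one
      · exact absurd e d.hne
      · rw [← e]; exact card_cr_conj h z
      · rw [← hPtz, ← e]; exact card_cr_conj h z
    obtain ⟨Q, hQ⟩ := exists_sylow_map S h
    have hCQ : ∀ c ∈ (S : Subgroup G), c * z' = z' * c → h⁻¹ * c * h ∈ (S : Subgroup G) := by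
      intro c hc hcz
      have hcN : c ∈ Subgroup.normalizer ((Q : Subgroup G) : Set G) := by
        refine hyp.cz Q (Subgroup.mem_centralizer_iff.2 fun w hw => ?_)
        rw [hQ, zc_map] at hw
        obtain ⟨y, hy, rfl⟩ := hw
        rcases d.hgen y hy with rfl | rfl
        · rw [map_one, one_mul, mul_one]
        · exact hcz.symm
      have hcQ : c ∈ (Q : Subgroup G) := le_of_le_normalizer Q
        (S.2.to_le (Subgroup.zpowers_le.2 hc)) (Subgroup.zpowers_le.2 hcN)
        (Subgroup.mem_zpowers c)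
      rw [hQ] at hcQ
      obtain ⟨e, he, rfl⟩ := hcQ
      have : h⁻¹ * (h * e * h⁻¹) * h = e := by group
      show h⁻¹ * (h * e * h⁻¹) * h ∈ _
      rw [this]; exact he
    set w := h⁻¹ * z * h with hw
    have hwS : w ∈ (S : Subgroup G) := hCQ z hzS (d.comm d.hz').symm
    have hw2 : w * w = 1 := by
      rw [hw, show h⁻¹ * z * h * (h⁻¹ * z * h) = h⁻¹ * (z * z) * h by group, d.z_mul]; group
    have hwcard : Nat.card ↥(cr w) = Nat.card ↥(cr z) := by
      have := card_cr_conj h⁻¹ z
      rwa [inv_inv] at this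
    by_cases hwt : w * t = t * w
    · rcases hlist w hwS hw2 hwt with e | e | e | e
      · exfalso
        apply d.hz1
        have h1 : h * w * h⁻¹ = z := by rw [hw]; group
        rw [e] at h1
        rw [← h1]; group
      · exfalso
        apply d.hne
        show h * z * h⁻¹ = z
        conv_lhs => arg 1; arg 2; rw [← e, hw]
        group
      · rw [← e]; exact hwcard
      · rw [← hPtz, ← e]; exact hwcard
    -- no element of order four in `C_S(z')`
    have hsq : ∀ c ∈ (S : Subgroup G), c * z' = z' * c → c * c = 1 := by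
      intro c hc hcz
      by_contra h2
      obtain ⟨k, hd2, hd4⟩ := exists_order_four hc h2
      set e := c ^ k with he
      have heS : e ∈ (S : Subgroup G) := pow_mem hc k
      have hez : Commute e z' := (show Commute c z' from hcz).pow_left k
      have heet : e * e * t = t * (e * e) := by
        by_cases het : e * t = t * e
        · exact ((show Commute e t from het).mul_left (show Commute e t from het)).eq
        · exact f.mul_fix d heS heS het het
      have hee : e * e = z := by
        rcases hlist _ (Subgroup.mul_mem _ heS heS) hd4 heet with r | r | r | r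
        · exact absurd r hd2
        · exact r
        · exact absurd (r ▸ (hez.mul_left hez).eq.symm) hz't
        · exfalso
          have h1 : Commute (z * t) z' := r ▸ hez.mul_left hez
          have h2 : Commute z z' := (d.comm d.hz').symm
          have h3 : Commute (z * (z * t)) z' := h2.mul_left h1
          rw [← mul_assoc, d.z_mul, one_mul] at h3
          exact hz't h3.symm.eq
      set e' := h⁻¹ * e * h with he'
      have he'S : e' ∈ (S : Subgroup G) := hCQ e heS hez.eq
      have he't : e' * e' * t = t * (e' * e') := by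
        by_cases het : e' * t = t * e'
        · exact ((show Commute e' t from het).mul_left (show Commute e' t from het)).eq
        · exact f.mul_fix d he'S he'S het het
      have : e' * e' = w := by rw [he', hw, ← hee]; group
      exact hwt (this ▸ he't)
    have hzz' : z * z' = z' * z := (d.comm d.hz').symm
    have hz'i : z'⁻¹ = z' := inv_eq_of_mul_eq_one_right d.z'_mul
    have hz'tz : z' * t * z' = t * z := by
      conv_lhs => arg 2; rw [← hz'i]
      exact (f.hconj z' d.hz').resolve_left fun e => hz't (mul_inv_eq_iff_eq_mul.1 e)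
    -- `C_S(t) = A`
    have hCt : ∀ k ∈ (S : Subgroup G), k * t = t * k → k ∈ A := by
      intro k hk hkt
      set x := k⁻¹ * (z' * k * z') with hx
      have hxS : x ∈ (S : Subgroup G) := Subgroup.mul_mem _ (Subgroup.inv_mem _ hk)
        (Subgroup.mul_mem _ (Subgroup.mul_mem _ d.hz' hk) d.hz')
      have hkzt : z' * k * z' * t = t * (z' * k * z') := by
        have hc : Commute k (t * z) := (show Commute k t from hkt).mul_right (d.comm hk)
        have e1 : z' * k * z' * t * (z' * z') = z' * (k * (z' * t * z')) * z' := by group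
        have e2 : z' * ((z' * t * z') * k) * z' = (z' * z') * t * (z' * k * z') := by group
        rw [hz'tz, hc.eq, ← hz'tz, e2, d.z'_mul, one_mul, mul_one] at e1
        exact e1
      have hxt : x * t = t * x :=
        ((show Commute k t from hkt).inv_left.mul_left (show Commute _ t from hkzt)).eq
      have hxinv : z' * x * z' = x⁻¹ := by
        rw [hx]
        simp only [mul_inv_rev, inv_inv, hz'i]
        calc z' * (k⁻¹ * (z' * k * z')) * z' = z' * k⁻¹ * z' * k * (z' * z') := by group
          _ = z' * (k⁻¹ * z') * k := by rw [d.z'_mul, mul_one]; group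
      have hx2 : x * x = 1 := by
        by_contra hne2
        obtain ⟨i, hy2, hy4⟩ := exists_order_four hxS hne2
        set y := x ^ i with hy
        have hyt : Commute y t := (show Commute x t from hxt).pow_left i
        have hyS : y ∈ (S : Subgroup G) := pow_mem hxS i
        have hyinv : z' * y * z' = y⁻¹ := by
          have := conj_pow (i := i) (a := z') (b := x)
          rw [hz'i, hxinv, inv_pow] at this
          exact this.symm
        have hyy : y * y = z := by
          have hfix : z' * (y * y) * z' = y * y := by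
            calc z' * (y * y) * z' = z' * y * (z' * z') * y * z' := by rw [d.z'_mul]; group
              _ = (z' * y * z') * (z' * y * z') := by group
              _ = (y * y)⁻¹ := by rw [hyinv, mul_inv_rev]
              _ = y * y := inv_eq_of_mul_eq_one_right hy4
          rcases hlist _ (Subgroup.mul_mem _ hyS hyS) hy4 (hyt.mul_left hyt).eq with r | r | r | r
          · exact absurd r hy2
          · exact r
          · rw [r, hz'tz] at hfix
            exact absurd (mul_eq_left.1 hfix) d.hz1
          · rw [r, show z' * (z * t) * z' = (z' * z) * t * z' by group, ← hzz',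
              show z * z' * t * z' = z * (z' * t * z') by group, hz'tz] at hfix
            exact absurd (mul_eq_left.1 (mul_left_cancel hfix)) d.hz1
        have hzi : z⁻¹ = z := inv_eq_of_mul_eq_one_right d.z_mul
        have hyi : y⁻¹ = y * z := by
          rw [← hyy]
          refine inv_eq_of_mul_eq_one_right ?_
          rw [← hy4]; group
        have hfix2 : y * t * z' = z' * (y * t) := by
          have e1 : z' * (y * t) * z' = y * t := by
            calc z' * (y * t) * z' = z' * y * (z' * z') * t * z' := by rw [d.z'_mul]; group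
              _ = (z' * y * z') * (z' * t * z') := by group
              _ = y * z * (t * z) := by rw [hyinv, hz'tz, hyi]
              _ = y * t := by
                rw [show y * z * (t * z) = y * (z * t) * z by group, hzt,
                  show y * (t * z) * z = y * t * (z * z) by group, d.z_mul, mul_one]
          calc y * t * z' = z' * (y * t) * z' * z' := by rw [e1]
            _ = z' * (y * t) * (z' * z') := by group
            _ = z' * (y * t) := by rw [d.z'_mul, mul_one]
        have := hsq (y * t) (Subgroup.mul_mem _ hyS f.ht) hfix2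
        rw [show y * t * (y * t) = y * (t * y) * t by group, ← hyt.eq,
          show y * (y * t) * t = y * y * (t * t) by group, f.ht2, mul_one, hyy] at this
        exact d.hz1 this
      have hfixA : ∀ m ∈ (S : Subgroup G), m * z' = z' * m → m * t = t * m → m ∈ A :=
        fun m hm hmz hmt => hlist m hm (hsq m hm hmz) hmt
      have hxfix : z' * x * z' = x := hxinv.trans (inv_eq_of_mul_eq_one_right hx2)
      rcases hlist x hxS hx2 hxt with r | r | r | r
      · refine hfixA k hk ?_ hkt
        rw [hx, inv_mul_eq_one] at r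
        calc k * z' = z' * k * z' * z' := by rw [← r]
          _ = z' * k * (z' * z') := by group
          _ = z' * k := by rw [d.z'_mul, mul_one]
      · have r' : z' * k * z' = k * z := by rw [← r, hx]; group
        have hcomm : k * t * z' = z' * (k * t) := by
          have e1 : z' * (k * t) * z' = k * t := by
            calc z' * (k * t) * z' = z' * k * (z' * z') * t * z' := by rw [d.z'_mul]; group
              _ = (z' * k * z') * (z' * t * z') := by group
              _ = k * t := by
                rw [r', hz'tz, show k * z * (t * z) = k * (z * t) * z by group, hzt,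
                  show k * (t * z) * z = k * t * (z * z) by group, d.z_mul, mul_one]
          calc k * t * z' = z' * (k * t) * z' * z' := by rw [e1]
            _ = z' * (k * t) * (z' * z') := by group
            _ = z' * (k * t) := by rw [d.z'_mul, mul_one]
        have hm := hfixA (k * t) (Subgroup.mul_mem _ hk f.ht) hcomm
          ((show Commute k t from hkt).mul_left (Commute.refl t)).eq
        have := A.mul_mem hm (Or.inr (Or.inr (Or.inl rfl)) : t ∈ A)
        rwa [mul_assoc, f.ht2, mul_one] at this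
      · rw [r, hz'tz] at hxfix
        exact absurd (mul_eq_left.1 hxfix) d.hz1
      · rw [r, show z' * (z * t) * z' = (z' * z) * t * z' by group, ← hzz',
          show z * z' * t * z' = z * (z' * t * z') by group, hz'tz] at hxfix
        exact absurd (mul_eq_left.1 (mul_left_cancel hxfix)) d.hz1
    -- `S = A ∪ A z'`, so `R = S` and transfer to `⟨z, z'⟩`
    have hall : ∀ g ∈ (S : Subgroup G), g ∈ A ∨ g * z' ∈ A := by
      intro g hg
      by_cases hgt : g * t = t * g
      · exact Or.inl (hCt g hg hgt)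
      · exact Or.inr (hCt _ (Subgroup.mul_mem _ hg d.hz') (f.mul_fix d hg d.hz' hgt hz't))
    set V := four z z' d.z_mul d.z'_mul hzz' with hV
    have hVR : V ≤ (S : Subgroup G) ⊓ pResidual 2 G := by
      rintro x (rfl | rfl | rfl | rfl)
      exacts [one_mem _, ⟨hzS, d.hzH⟩, ⟨d.hz', d.z'_resid⟩,
        Subgroup.mul_mem _ ⟨hzS, d.hzH⟩ ⟨d.hz', d.z'_resid⟩]
    have htz' : t * z' * t = z * z' := by
      calc t * z' * t = t * (z' * t * (z' * z')) := by rw [d.z'_mul, mul_one]; group
        _ = t * (z' * t * z') * z' := by group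
        _ = z * z' := by rw [hz'tz, ← mul_assoc t, f.ht2, one_mul]
    have htV : t ∉ V := by
      rintro (r | r | r | r)
      · exact f.ht1 r
      · exact f.htz r
      · exact hz't (by rw [r])
      · exact hz't (by rw [r, ← mul_assoc z', ← hzz', mul_assoc z z' z'])
    obtain ⟨g, -, hg⟩ := SolvCent.transfer S (M := V) hVR (g0 := t) ⟨f.ht, htH⟩ htV (fun g hg => by
      have hzV : z ∈ V := Or.inr (Or.inl rfl)
      have hz'V : z' ∈ V := Or.inr (Or.inr (Or.inl rfl))
      rcases hall g hg.1 with hgA | hgA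
      · rcases hgA with rfl | rfl | rfl | rfl
        · exact Or.inl (one_mem _)
        · exact Or.inl hzV
        · exact Or.inr (by rw [f.ht2]; exact one_mem _)
        · exact Or.inr (by rw [mul_assoc, f.ht2, mul_one]; exact hzV)
      · have hg' : ∀ r, g * z' = r → g = r * z' := fun r hr => by
          rw [← hr, mul_assoc, d.z'_mul, mul_one]
        rcases hgA with r | r | r | r
        · rw [hg' 1 r, one_mul]; exact Or.inl hz'V
        · rw [hg' z r]; exact Or.inl (V.mul_mem hzV hz'V)
        · refine Or.inr ?_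
          rw [hg' t r, htz']
          exact V.mul_mem hzV hz'V
        · refine Or.inr ?_
          rw [hg' (z * t) r, show z * t * z' * t = z * (t * z' * t) by group, htz', ← mul_assoc,
            d.z_mul, one_mul]
          exact hz'V)
      (orderOf_eq_prime (by rw [pow_two]; exact f.ht2) f.ht1) htH
    have hc := card_cr_conj g t
    rcases hg with r | r | r | r
    · exact absurd (conj_eq_one_iff.1 r) f.ht1
    · rw [r] at hc; exact hc.symm
    · rw [r] at hc; rw [← hc]; exact card_cr_conj h z
    · rw [r, ← htz'] at hc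
      rw [← hc]
      have h2 := card_cr_conj t z'
      rw [inv_eq_of_mul_eq_one_right f.ht2] at h2
      rw [h2]; exact card_cr_conj h z
  have hinA : ∀ v ∈ (S : Subgroup G), v ∈ pResidual 2 G → orderOf v = 2 → v * t = t * v →
      Nat.card ↥(cr v) = Nat.card ↥(cr z) := by
    intro v hv hvH hvo hvt
    rcases hlist v hv (by rw [← pow_two, ← hvo]; exact pow_orderOf_eq_one v) hvt with r | r | r | r
    · rw [r, orderOf_one] at hvo; norm_num at hvo
    · rw [r]
    · rw [r] at hvH ⊢; exact hmain hvH
    · rw [r] at hvH ⊢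
      rw [hPtz]
      refine hmain ?_
      have := (pResidual 2 G).mul_mem d.hzH hvH
      rwa [← mul_assoc, d.z_mul, one_mul] at this
  by_cases hut : u * t = t * u
  · exact hinA u hu huH huo hut
  · obtain ⟨v, hv, hvH, hvt, hvo, hcard⟩ := f.transfer d hu huH huo hut
    rw [hcard]; exact hinA v hv hvH hvo hvt

end

end Cfsg.Agent.Lib.SolvCent
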