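import Cfsg.Agent.Lib.LAEven56.JComp.Final
import Cfsg.Agent.Lib.SolvCent.Two

/-!
# The shape of a pair of maximal 2-locals over a common Sylow subgroup

Owner: helper2. Namespace `Cfsg.Agent.Lib.SolvCent.Locals`.
-/

set_option autoImplicit false
set_option linter.style.haveILetI false

open Cfsg
open Cfsg.Agent.Lib.LAEven56.JComp

namespace Cfsg.Agent.Lib.SolvCent.Locals

variable {G : Type*} [Group G] [Finite G]

/-- The elements `z, a, b` of a pair: `T ⊇ ⟨a, b⟩ ≅ D₈` with centre `⟨z⟩`. -/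
structure Shape (T K L K' L' : Subgroup G) (z a b : G) : Prop where
  pair : Pair T K L K' L'
  zw : z ∈ wZ T K
  zw' : z ∈ wZ T K'
  z1 : z ≠ 1
  aw : a ∈ Cfsg.wOf K
  bw : b ∈ Cfsg.wOf K'
  nc : a * b ≠ b * a

variable {T K L K' L' : Subgroup G} {z a b : G}

theorem wOf_le_T (p : Pair T K L K' L') : Cfsg.wOf K ≤ T := p.left.wOf_le

theorem T_le_normalizer_wOf (p : Pair T K L K' L') (hG : ZNHyp G) :
    T ≤ Subgroup.normalizer (Cfsg.wOf K : Set G) :=
  (p.le_normalizer hG).trans (normalizer_le_normalizer_wOf K)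

theorem wOf_ne (p : Pair T K L K' L') (hG : ZNHyp G) : Cfsg.wOf K ≠ Cfsg.wOf K' := by
  intro e
  have h1 : L ≤ Subgroup.normalizer (Cfsg.wOf K : Set G) :=
    (p.local_le_normalizer hG).trans (normalizer_le_normalizer_wOf K)
  have h2 : L' ≤ Subgroup.normalizer (Cfsg.wOf K : Set G) := by
    rw [e]; exact (p.symm.local_le_normalizer hG).trans (normalizer_le_normalizer_wOf K')
  exact wOf_ne_bot p.left.comp (p.eq_of_le_normalizer
    (PGroups.elemAb_isPGroup (preComp_of p.left.two p.left.comp).wOf_elemAb) h1 h2)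

theorem normalizer_wOf_eq (p : Pair T K L K' L') (hG : ZNHyp G) :
    Subgroup.normalizer (Cfsg.wOf K : Set G) = L :=
  p.left.maximal.2 _ (isTwoLocal_normalizer_wOf p.left.two p.left.comp)
    ((p.local_le_normalizer hG).trans (normalizer_le_normalizer_wOf K))

/-- Existence of the shape. -/
theorem exists_shape (p : Pair T K L K' L') (hG : ZNHyp G) :
    ∃ z a b, Shape T K L K' L' z a b := by
  have hT := p.left.two
  have hnc : ¬ Cfsg.wOf K' ≤ Subgroup.centralizer (Cfsg.wOf K : Set G) := by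
    intro hle
    have h1 : Cfsg.pCoreOf 2 L' = Cfsg.pCoreOf 2 L := by
      have hK'core : Cfsg.wOf K' ≤ Cfsg.pCoreOf 2 L :=
        (p.inf_centralizer_eq hG) ▸ le_inf (wOf_le_T p.symm) hle
      have hle' : Cfsg.pCoreOf 2 L ≤ T ⊓ Subgroup.centralizer (Cfsg.wOf K' : Set G) := by
        refine le_inf (LocalData.core_le_T p.left.mem) (Subgroup.le_centralizer_iff.1 ?_)
        refine hK'core.trans ?_
        rw [p.core_eq_vC hG]
        exact fun x hx => Subgroup.mem_centralizer_iff.2 fun y hy => vC_comm hy hx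
      rw [p.symm.inf_centralizer_eq hG] at hle'
      exact (Subgroup.eq_of_le_of_card_ge hle'
        (by rw [p.symm.card_core hG, p.card_core hG, p.card_cK_eq hG])).symm
    exact p.ne (p.left.normalizer_core_eq.symm.trans (h1 ▸ p.right.normalizer_core_eq))
  obtain ⟨b, hb, hbC⟩ := SetLike.not_le_iff_exists.1 hnc
  obtain ⟨a, ha, hab⟩ := exists_not_commute hbC
  set z := a * b * a⁻¹ * b⁻¹ with hz
  have hnW := T_le_normalizer_wOf p hG
  have hnW' := T_le_normalizer_wOf p.symm hG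
  have haT := wOf_le_T p ha
  have hbT := wOf_le_T p.symm hb
  have hzW : z ∈ Cfsg.wOf K := by
    rw [hz, show a * b * a⁻¹ * b⁻¹ = a * (b * a⁻¹ * b⁻¹) by group]
    exact mul_mem ha ((Subgroup.mem_normalizer_iff.1 (hnW hbT) _).1 (inv_mem ha))
  have hzW' : z ∈ Cfsg.wOf K' :=
    mul_mem ((Subgroup.mem_normalizer_iff.1 (hnW' haT) _).1 hb) (inv_mem hb)
  have hz1 : z ≠ 1 := by
    intro e
    rw [hz, mul_inv_eq_one, mul_inv_eq_iff_eq_mul] at e
    exact hab (by first | exact e | exact e.symm)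
  have hcard : Nat.card (Cfsg.wOf K ⊓ Cfsg.wOf K' : Subgroup G) ≤ 2 := by
    refine eq_one_or_of_fixed ((preComp_of hT p.left.comp).card_wOf (wOf_ne_bot p.left.comp))
      (lt_of_le_of_ne inf_le_left fun e => wOf_ne p hG ?_)
    refine Subgroup.eq_of_le_of_card_ge (inf_eq_left.1 e) ?_
    rw [(preComp_of hT p.left.comp).card_wOf (wOf_ne_bot p.left.comp),
      (preComp_of hT p.right.comp).card_wOf (wOf_ne_bot p.right.comp)]
  have hzC : ∀ t ∈ T, t * z = z * t := by
    intro t ht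
    have h1 : t * z * t⁻¹ ∈ Cfsg.wOf K ⊓ Cfsg.wOf K' :=
      ⟨(Subgroup.mem_normalizer_iff.1 (hnW ht) _).1 hzW,
        (Subgroup.mem_normalizer_iff.1 (hnW' ht) _).1 hzW'⟩
    rcases eq_one_or_eq_of_card_two hcard ⟨hzW, hzW'⟩ hz1 h1 with e | e
    · exact absurd (conj_eq_one_iff.1 e) hz1
    · exact mul_inv_eq_iff_eq_mul.1 e
  have hzJ : z ∈ zJ T := by
    rw [← p.omegaCenter_eq hG]
    show z ∈ zc T
    exact mem_zc.2 ⟨wOf_le_T p hzW, hzC, (preComp_of hT p.left.comp).wOf_elemAb.2 z hzW⟩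
  refine ⟨z, a, b, p, ⟨hzJ, hzW⟩, ⟨hzJ, hzW'⟩, hz1, ha, hb, ?_⟩
  exact fun e => hab (by first | exact e | exact e.symm)

namespace Shape

theorem symm (s : Shape T K L K' L' z a b) : Shape T K' L' K L z b a :=
  ⟨s.pair.symm, s.zw', s.zw, s.z1, s.bw, s.aw, fun e => s.nc e.symm⟩

theorem aT (s : Shape T K L K' L' z a b) : a ∈ T := wOf_le_T s.pair s.aw

theorem bT (s : Shape T K L K' L' z a b) : b ∈ T := s.symm.aT

theorem zT (s : Shape T K L K' L' z a b) : z ∈ T := wOf_le_T s.pair s.zw.2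

theorem card_wOf (s : Shape T K L K' L' z a b) : Nat.card (Cfsg.wOf K) = 4 :=
  (preComp_of s.pair.left.two s.pair.left.comp).card_wOf (wOf_ne_bot s.pair.left.comp)

theorem sq (s : Shape T K L K' L' z a b) {w : G} (hw : w ∈ Cfsg.wOf K) : w * w = 1 := by
  rw [← pow_two]; exact (preComp_of s.pair.left.two s.pair.left.comp).wOf_elemAb.2 w hw

theorem aa (s : Shape T K L K' L' z a b) : a * a = 1 := s.sq s.aw

theorem bb (s : Shape T K L K' L' z a b) : b * b = 1 := s.symm.aa

theorem zz (s : Shape T K L K' L' z a b) : z * z = 1 := s.sq s.zw.2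

theorem z_comm (s : Shape T K L K' L' z a b) (hG : ZNHyp G) {t : G} (ht : t ∈ T) :
    t * z = z * t :=
  (Subgroup.mem_centralizer_iff.1 (s.pair.centralizes_zJ hG ht) z s.zw.1).symm

theorem a1 (s : Shape T K L K' L' z a b) : a ≠ 1 := fun e => s.nc (by rw [e]; simp)

theorem az (s : Shape T K L K' L' z a b) (hG : ZNHyp G) : a ≠ z := fun e => s.nc (by
  rw [e]; exact (s.z_comm hG s.bT).symm)

theorem wOf_cases (s : Shape T K L K' L' z a b) (hG : ZNHyp G) {w : G} (hw : w ∈ Cfsg.wOf K) :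
    w = 1 ∨ w = z ∨ w = a ∨ w = a * z :=
  four_cases s.card_wOf s.zw.2 s.z1 s.zz s.aw s.a1 (s.az hG) hw

theorem bab (s : Shape T K L K' L' z a b) (hG : ZNHyp G) : b * a * b⁻¹ = a * z :=
  (conj_cases s.card_wOf s.zw.2 s.z1 s.aw s.a1 (s.az hG) (T_le_normalizer_wOf s.pair hG s.bT)
    (conj_eq_of_comm (s.z_comm hG s.bT).symm)).resolve_left
      fun e => s.nc (mul_inv_eq_iff_eq_mul.1 e).symm

theorem ba (s : Shape T K L K' L' z a b) (hG : ZNHyp G) : b * a = a * b * z := by
  rw [mul_inv_eq_iff_eq_mul.1 (s.bab hG), mul_assoc, ← s.z_comm hG s.bT, ← mul_assoc]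

theorem ab_sq (s : Shape T K L K' L' z a b) (hG : ZNHyp G) : a * b * (a * b) = z := by
  calc a * b * (a * b) = a * (b * a) * b := by group
    _ = (a * a) * b * (z * b) := by rw [s.ba hG]; group
    _ = b * (b * z) := by rw [s.aa, one_mul, ← s.z_comm hG s.bT]
    _ = z := by rw [← mul_assoc, s.bb, one_mul]

theorem a_conj_z (s : Shape T K L K' L' z a b) (hG : ZNHyp G) : ∃ g, g * z * g⁻¹ = a := by
  have hp := preComp_of s.pair.left.two s.pair.left.comp
  obtain ⟨d, hd, -, hd3, hgen⟩ := hp.exists_three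
  have hdW : d ∈ Subgroup.normalizer (Cfsg.wOf K : Set G) :=
    normalizer_le_normalizer_wOf K (Subgroup.le_normalizer hd)
  have h1 := (Subgroup.mem_normalizer_iff.1 hdW z).1 s.zw.2
  rcases s.wOf_cases hG h1 with e | e | e | e
  · exact absurd (conj_eq_one_iff.1 e) s.z1
  · exact absurd (hp.no_fixed hd hd3 hgen z s.zw.2 (mul_inv_eq_iff_eq_mul.1 e)) s.z1
  · exact ⟨d, e⟩
  · refine ⟨b * d, ?_⟩
    rw [show b * d * z * (b * d)⁻¹ = b * (d * z * d⁻¹) * b⁻¹ by group, e,
      show b * (a * z) * b⁻¹ = b * a * b⁻¹ * (b * z * b⁻¹) by group, s.bab hG,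
      conj_eq_of_comm (s.z_comm hG s.bT).symm, mul_assoc, s.zz, mul_one]

theorem orderOf_a (s : Shape T K L K' L' z a b) : orderOf a = 2 :=
  orderOf_eq_prime (by rw [pow_two]; exact s.aa) s.a1

theorem orderOf_ab (s : Shape T K L K' L' z a b) (hG : ZNHyp G) : orderOf (a * b) = 4 := by
  have h2 : (a * b) ^ 2 = z := by rw [pow_two]; exact s.ab_sq hG
  have h := orderOf_eq_prime_pow (p := 2) (n := 1) (x := a * b)
    (by rw [pow_one, h2]; exact s.z1)
    (by rw [show (2 : ℕ) ^ (1 + 1) = 2 * 2 by norm_num, pow_mul, h2, pow_two, s.zz])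
  simpa using h

/-- The dihedral subgroup `⟨a, b⟩`. -/
theorem closure_cases (s : Shape T K L K' L' z a b) (hG : ZNHyp G) {d : G}
    (hd : d ∈ Subgroup.closure ({a, b} : Set G)) :
    (d = 1 ∨ d = z ∨ d = a * b ∨ d = a * b * z) ∨
      (d = a ∨ d = a * z ∨ d = b ∨ d = b * z) := by
  obtain ⟨k, hk⟩ := (Involutions.Basic.mem_closure_pair s.aa s.bb).1 hd
  have h4 : (a * b) ^ (4 : ℤ) = 1 := by
    rw [← orderOf_dvd_iff_zpow_eq_one, s.orderOf_ab hG]; rfl
  have hk4 : (a * b) ^ k = (a * b) ^ (k % 4) := by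
    conv_lhs => rw [← Int.mul_ediv_add_emod k 4, zpow_add, zpow_mul, h4, one_zpow, one_mul]
  have hm : k % 4 = 0 ∨ k % 4 = 1 ∨ k % 4 = 2 ∨ k % 4 = 3 := by omega
  rw [hk4] at hk
  have hz2 : (a * b) ^ (2 : ℤ) = z := by rw [zpow_two]; exact s.ab_sq hG
  rcases hk with e | e <;> rcases hm with m | m | m | m <;> rw [m] at e
  · exact Or.inl (Or.inl (by rw [e, zpow_zero]))
  · exact Or.inl (Or.inr (Or.inr (Or.inl (by rw [e, zpow_one]))))
  · exact Or.inl (Or.inr (Or.inl (by rw [e, hz2])))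
  · exact Or.inl (Or.inr (Or.inr (Or.inr (by
      rw [e, show (3 : ℤ) = 1 + 2 by norm_num, zpow_add, zpow_one, hz2]))))
  · exact Or.inr (Or.inl (by rw [e, zpow_zero, mul_one]))
  · exact Or.inr (Or.inr (Or.inr (Or.inl (by rw [e, zpow_one, ← mul_assoc, s.aa, one_mul]))))
  · exact Or.inr (Or.inr (Or.inl (by rw [e, hz2])))
  · exact Or.inr (Or.inr (Or.inr (Or.inr (by
      rw [e, show (3 : ℤ) = 1 + 2 by norm_num, zpow_add, zpow_one, hz2, ← mul_assoc, ← mul_assoc,
        s.aa, one_mul]))))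

theorem closure_le (s : Shape T K L K' L' z a b) : Subgroup.closure ({a, b} : Set G) ≤ T :=
  (Subgroup.closure_le _).2 (by rintro x (rfl | rfl); exacts [s.aT, s.bT])

theorem card_closure (s : Shape T K L K' L' z a b) (hG : ZNHyp G) :
    Nat.card ↥(Subgroup.closure ({a, b} : Set G)) = 8 := by
  rw [Involutions.Basic.card_closure_pair s.orderOf_a s.symm.orderOf_a, s.orderOf_ab hG]

/-- Involutions of `⟨a, b⟩` are conjugate to `z`. -/
theorem conj_z_of_mem (s : Shape T K L K' L' z a b) (hG : ZNHyp G) {d : G}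
    (hd : d ∈ Subgroup.closure ({a, b} : Set G)) (hd2 : d * d = 1) (hd1 : d ≠ 1) :
    ∃ g, g * z * g⁻¹ = d := by
  rcases s.closure_cases hG hd with (e | e | e | e) | (e | e | e | e)
  · exact absurd e hd1
  · exact ⟨1, by simp [e]⟩
  · exact absurd (by rw [← s.ab_sq hG, ← e]; exact hd2) s.z1
  · exfalso
    refine s.z1 ?_
    rw [e, show a * b * z * (a * b * z) = a * b * (z * (a * b)) * z by group,
      ← s.z_comm hG (mul_mem s.aT s.bT),
      show a * b * (a * b * z) * z = a * b * (a * b) * (z * z) by group, s.ab_sq hG, s.zz,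
      mul_one] at hd2
    exact hd2
  · exact e ▸ s.a_conj_z hG
  · obtain ⟨g, hg⟩ := s.a_conj_z hG
    refine ⟨b * g, ?_⟩
    rw [show b * g * z * (b * g)⁻¹ = b * (g * z * g⁻¹) * b⁻¹ by group, hg, s.bab hG, e]
  · exact e ▸ s.symm.a_conj_z hG
  · obtain ⟨g, hg⟩ := s.symm.a_conj_z hG
    refine ⟨a * g, ?_⟩
    rw [show a * g * z * (a * g)⁻¹ = a * (g * z * g⁻¹) * a⁻¹ by group, hg, s.symm.bab hG, e]

/-- `W_K ≤ O²(G)`. -/
theorem le_pResidual (s : Shape T K L K' L' z a b) :
    Subgroup.closure ({a, b} : Set G) ≤ pResidual 2 G := by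
  have key : ∀ {T K : Subgroup G}, IsPGroup 2 T → Cfsg.IsJComponent T K →
      Cfsg.wOf K ≤ pResidual 2 G := by
    intro T K hT hK
    refine le_trans ((preComp_of hT hK).wOf_le_omega.trans
      ((PLocal.omegaCenterOf_le _).trans PreComp.core_le)) ?_
    rw [← hK.1]
    refine (Subgroup.closure_le _).2 fun g hg => Transfer.PResidual.mem_pResidual ?_
    exact (Nat.coprime_two_right).2 hg.2
  refine (Subgroup.closure_le _).2 ?_
  rintro x (rfl | rfl)
  · exact key s.pair.left.two s.pair.left.comp s.aw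
  · exact key s.pair.left.two s.pair.right.comp s.bw

end Shape

/-- The case `L ≅ S₄ × 2`: the elements `c ∈ C(K)`, `cz ∈ C(K')`. -/
structure Shape2 (T K L K' L' : Subgroup G) (z a b c : G) : Prop extends Shape T K L K' L' z a b where
  cc : c ∈ cK T K
  c1 : c ≠ 1
  card : Nat.card (cK T K) = 2

variable {c : G}

namespace Shape2

theorem c2 (s : Shape2 T K L K' L' z a b c) : c * c = 1 := by
  rw [← pow_two]; exact (zJ_elemAb T).2 c s.cc.1

theorem c_ne_z (s : Shape2 T K L K' L' z a b c) : c ≠ z := fun e =>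
  s.c1 (Subgroup.mem_bot.1
    (cK_inf_wOf (preComp_of s.pair.left.two s.pair.left.comp) ▸ ⟨s.cc, e ▸ s.zw.2⟩))

theorem zJ_cases (s : Shape2 T K L K' L' z a b c) {x : G} (hx : x ∈ zJ T) :
    x = 1 ∨ x = z ∨ x = c ∨ x = c * z := by
  obtain ⟨c0, hc0, h⟩ := mem_zJ_cases s.pair.left.two s.pair.left.comp s.zw s.z1 hx
  rcases eq_one_or_eq_of_card_two s.card.le s.cc s.c1 hc0 with rfl | rfl <;> rcases h with rfl | rfl
  · exact Or.inl rfl
  · exact Or.inr (Or.inl (one_mul z))
  · exact Or.inr (Or.inr (Or.inl rfl))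
  · exact Or.inr (Or.inr (Or.inr rfl))

theorem c_comm (s : Shape2 T K L K' L' z a b c) (hG : ZNHyp G) {t : G} (ht : t ∈ T) :
    t * c = c * t :=
  (Subgroup.mem_centralizer_iff.1 (s.pair.centralizes_zJ hG ht) c s.cc.1).symm

theorem cT (s : Shape2 T K L K' L' z a b c) : c ∈ T :=
  PGroups.thompsonSubgroupOf_le 2 T (zJ_le_jT T s.cc.1)

theorem cz_mem (s : Shape2 T K L K' L' z a b c) (hG : ZNHyp G) : c * z ∈ cK T K' := by
  have hcard' : Nat.card (cK T K') = 2 := by rw [← s.pair.card_cK_eq hG]; exact s.card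
  obtain ⟨c', hc', hc'1⟩ := (Subgroup.bot_or_exists_ne_one (cK T K')).resolve_left fun e => by
    rw [e, Subgroup.card_bot] at hcard'; omega
  rcases s.zJ_cases hc'.1 with e | e | e | e
  · exact absurd e hc'1
  · exact absurd (Subgroup.mem_bot.1 (cK_inf_wOf (preComp_of s.pair.left.two s.pair.right.comp) ▸
      ⟨hc', e ▸ s.zw'.2⟩)) hc'1
  · exact absurd (s.pair.cK_disjoint (e ▸ s.cc) hc') hc'1
  · exact e ▸ hc'

theorem symm (s : Shape2 T K L K' L' z a b c) (hG : ZNHyp G) :
    Shape2 T K' L' K L z b a (c * z) where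
  toShape := s.toShape.symm
  cc := s.cz_mem hG
  c1 := fun e => s.c_ne_z (by
    rw [eq_inv_of_mul_eq_one_left e]; exact inv_eq_of_mul_eq_one_right s.zz)
  card := by rw [← s.pair.card_cK_eq hG]; exact s.card

theorem centralizer_c (s : Shape2 T K L K' L' z a b c) (hG : ZNHyp G) :
    Subgroup.centralizer ({c} : Set G) = L := s.pair.local_eq_centralizer hG s.cc s.c1

theorem c_notMem (s : Shape2 T K L K' L' z a b c) (hG : ZNHyp G) :
    c ∉ Subgroup.closure ({a, b} : Set G) := by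
  intro h
  have hca := s.c_comm hG s.aT
  have hcb := s.c_comm hG s.bT
  have hza := s.z_comm hG s.aT
  have hzb := s.z_comm hG s.bT
  rcases s.toShape.closure_cases hG h with (e | e | e | e) | (e | e | e | e) <;> rw [e] at hca hcb
  · exact s.c1 e
  · exact s.c_ne_z e
  · exact s.nc (mul_left_cancel (by rw [hca, mul_assoc]))
  · have h2 : Commute a (a * b * z * z) := (show Commute a (a * b * z) from hca).mul_right hza
    rw [mul_assoc (a * b) z z, s.zz, mul_one] at h2
    exact s.nc (mul_left_cancel (h2.eq.trans (mul_assoc a b a)))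
  · exact s.nc hcb.symm
  · rw [← mul_assoc, mul_assoc a z b, ← hzb, ← mul_assoc] at hcb
    exact s.nc (mul_right_cancel hcb).symm
  · exact s.nc hca
  · rw [← mul_assoc, mul_assoc b z a, ← hza, ← mul_assoc] at hca
    exact s.nc (mul_right_cancel hca)

theorem mem_cases (s : Shape2 T K L K' L' z a b c) (hG : ZNHyp G) {t : G} (ht : t ∈ T) :
    t ∈ Subgroup.closure ({a, b} : Set G) ∨ t * c ∈ Subgroup.closure ({a, b} : Set G) := by
  set D := Subgroup.closure ({a, b} : Set G) with hD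
  have hidx : D.relIndex T = 2 := by
    have h1 := (D.subgroupOf T).card_mul_index
    rw [Nat.card_congr (Subgroup.subgroupOfEquivOfLe s.toShape.closure_le).toEquiv,
      s.toShape.card_closure hG, s.pair.card_T hG, s.card] at h1
    change 8 * D.relIndex T = 8 * 2 at h1
    omega
  by_contra hcon
  push Not at hcon
  have h := Subgroup.mul_mem_iff_of_index_two (H := D.subgroupOf T) hidx
    (a := ⟨t, ht⟩) (b := ⟨c, s.cT⟩)
  simp only [Subgroup.mem_subgroupOf, Subgroup.coe_mul] at h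
  exact hcon.2 (h.2 ⟨fun h1 => absurd h1 hcon.1, fun h1 => absurd h1 (s.c_notMem hG)⟩)

theorem sq_mem (s : Shape2 T K L K' L' z a b c) (hG : ZNHyp G) {t : G} (ht : t ∈ T) :
    t * t = 1 ∨ t * t = z := by
  have key : ∀ d ∈ Subgroup.closure ({a, b} : Set G), d * d = 1 ∨ d * d = z := by
    intro d hd
    rcases s.toShape.closure_cases hG hd with (e | e | e | e) | (e | e | e | e) <;> rw [e]
    · exact Or.inl (one_mul 1)
    · exact Or.inl s.zz
    · exact Or.inr (s.ab_sq hG)
    · refine Or.inr ?_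
      rw [show a * b * z * (a * b * z) = a * b * (z * (a * b)) * z by group,
        ← s.z_comm hG (mul_mem s.aT s.bT),
        show a * b * (a * b * z) * z = a * b * (a * b) * (z * z) by group, s.ab_sq hG, s.zz, mul_one]
    · exact Or.inl s.aa
    · refine Or.inl ?_
      rw [show a * z * (a * z) = a * (z * a) * z by group, ← s.z_comm hG s.aT,
        show a * (a * z) * z = a * a * (z * z) by group, s.aa, s.zz, mul_one]
    · exact Or.inl s.bb
    · refine Or.inl ?_
      rw [show b * z * (b * z) = b * (z * b) * z by group, ← s.z_comm hG s.bT,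
        show b * (b * z) * z = b * b * (z * z) by group, s.bb, s.zz, mul_one]
  rcases s.mem_cases hG ht with h | h
  · exact key t h
  · have := key _ h
    rwa [show t * c * (t * c) = t * (c * t) * c by group, ← s.c_comm hG ht,
      show t * (t * c) * c = t * t * (c * c) by group, s.c2, mul_one] at this

/-- An element of `T` normalising `T` fixes `z`. -/
theorem conj_z (s : Shape2 T K L K' L' z a b c) (hG : ZNHyp G) {x : G}
    (hx : x ∈ Subgroup.normalizer (T : Set G)) : x * z * x⁻¹ = z := by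
  have h1 := (Subgroup.mem_normalizer_iff.1 hx (a * b)).1 (mul_mem s.aT s.bT)
  have e : x * z * x⁻¹ = x * (a * b) * x⁻¹ * (x * (a * b) * x⁻¹) := by rw [← s.ab_sq hG]; group
  rcases s.sq_mem hG h1 with h | h
  · exact absurd (conj_eq_one_iff.1 (e.trans h)) s.z1
  · exact e.trans h

/-- Conjugation by a normalizer of `T` keeps the four group `{1, z, c, cz}`. -/
theorem conj_c (s : Shape2 T K L K' L' z a b c) (hG : ZNHyp G) {x : G}
    (hx : x ∈ Subgroup.normalizer (T : Set G)) : x * c * x⁻¹ = c ∨ x * c * x⁻¹ = c * z := by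
  have h1 : x * c * x⁻¹ ∈ zJ T := by
    rw [← s.pair.omegaCenter_eq hG]
    show _ ∈ zc T
    refine mem_zc.2 ⟨(Subgroup.mem_normalizer_iff.1 hx c).1 s.cT, fun t ht => ?_,
      by rw [conj_pow, pow_two, s.c2, mul_one, mul_inv_cancel]⟩
    have ht' : x⁻¹ * t * x ∈ T := by
      have := (Subgroup.mem_normalizer_iff.1 (inv_mem hx) t).1 ht
      rwa [inv_inv] at this
    have h2 := s.c_comm hG ht'
    calc t * (x * c * x⁻¹) = x * ((x⁻¹ * t * x) * c) * x⁻¹ := by group
      _ = x * (c * (x⁻¹ * t * x)) * x⁻¹ := by rw [h2]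
      _ = x * c * x⁻¹ * t := by group
  rcases s.zJ_cases h1 with e | e | e | e
  · exact absurd (conj_eq_one_iff.1 e) s.c1
  · exfalso
    refine s.c_ne_z ?_
    rw [← s.conj_z hG hx] at e
    exact mul_left_cancel (mul_right_cancel e)
  · exact Or.inl e
  · exact Or.inr e

end Shape2

end Cfsg.Agent.Lib.SolvCent.Locals
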