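import Cfsg.Agent.Lib.SolvCent.PairShape
import Cfsg.Agent.Lib.HalfTransitive.MaxClass

/-!
# The Sylow subgroup above a pair

Owner: helper2. Namespace `Cfsg.Agent.Lib.SolvCent.Locals`.
-/

set_option autoImplicit false
set_option linter.style.haveILetI false

open Cfsg
open Cfsg.Agent.Lib.LAEven56.JComp

namespace Cfsg.Agent.Lib.SolvCent.Locals

variable {G : Type*} [Group G] [Finite G] {T K L K' L' : Subgroup G} {z a b c : G}

/-- Dihedral or semidihedral. -/
def IsDihOrSd (P : Type*) [Group P] : Prop :=
  (∃ n : ℕ, 2 ≤ n ∧ Nonempty (P ≃* DihedralGroup n)) ∨ Cfsg.IsQuasiDihedral P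

theorem dihedral_of_generators {P : Subgroup G} {x y : G} (hx : orderOf x = 2) (hy : orderOf y = 2)
    (hgen : Subgroup.closure ({x, y} : Set G) = P) (h2 : 2 ≤ orderOf (x * y)) : IsDihOrSd ↥P :=
  Or.inl ⟨_, h2, ⟨(MulEquiv.subgroupCongr hgen.symm).trans
    (Involutions.Basic.closurePairEquiv hx hy)⟩⟩

theorem relIndex_sylow_eq_one {T Q L : Subgroup G} (h : Cfsg.IsSylowTwoIn T L) (hTQ : T ≤ Q)
    (hQL : Q ≤ L) (hQ : IsPGroup 2 ↥Q) : Q ≤ T := by
  haveI : Fact (Nat.Prime 2) := ⟨Nat.prime_two⟩
  rw [← Subgroup.relIndex_eq_one]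
  have h1 : Odd (T.relIndex Q) := by
    have h3 := Subgroup.relIndex_mul_relIndex T Q L hTQ hQL
    have h4 := h.2.2
    rw [← h3] at h4
    exact (Nat.odd_mul.1 h4).1
  obtain ⟨n, hn⟩ := IsPGroup.iff_card.1 hQ
  obtain ⟨k, -, hk⟩ := (Nat.dvd_prime_pow Nat.prime_two).1
    (hn ▸ (T.subgroupOf Q).index_dvd_card : T.relIndex Q ∣ 2 ^ n)
  rcases k with _ | k
  · simpa using hk
  · rw [hk, pow_succ] at h1
    exact absurd (even_two.mul_left _) (Nat.not_even_iff_odd.2 h1)

/-- The case `L ≅ S₄`. -/
theorem Shape.case_one (s : Shape T K L K' L' z a b) (hG : ZNHyp G) (h1 : Nat.card (cK T K) = 1)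
    (P : Sylow 2 G) (hTP : T ≤ (P : Subgroup G)) :
    Nat.card ↥(zc (P : Subgroup G)) = 2 ∧ IsDihOrSd ↥(P : Subgroup G) := by
  classical
  haveI : Fact (Nat.Prime 2) := ⟨Nat.prime_two⟩
  set W := Cfsg.wOf K with hW
  -- `W` is self-centralizing
  have hCW : ∀ x : G, x * z = z * x → x * a = a * x → x ∈ W := by
    intro x hxz hxa
    have hxC : x ∈ Subgroup.centralizer (W : Set G) :=
      mem_centralizer_of_two s.card_wOf s.zw.2 s.z1 s.aw s.a1 (s.az hG) hxz hxa
    have hxL : x ∈ L := normalizer_wOf_eq s.pair hG ▸ Subgroup.centralizer_le_normalizer _ hxC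
    have hx := s.pair.inf_centralizer_wOf_le hG ⟨hxL, hxC⟩
    have hWQ : W = Cfsg.pCoreOf 2 L := Subgroup.eq_of_le_of_card_ge
      (by rw [← s.pair.inf_centralizer_eq hG]
          exact le_inf (wOf_le_T s.pair) fun w hw => Subgroup.mem_centralizer_iff.2 fun v hv =>
            PGroups.elemAb_comm (preComp_of s.pair.left.two s.pair.left.comp).wOf_elemAb hv hw)
      (by rw [s.pair.card_core hG, h1, s.card_wOf])
    rwa [← hWQ] at hx
  have haP : a ∈ (P : Subgroup G) := hTP s.aT
  have hzcW : ∀ w ∈ zc (P : Subgroup G), w = 1 ∨ w = z := by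
    intro w hw
    have hwz := (zc_comm hw (hTP s.zT)).symm
    have hwa := (zc_comm hw haP).symm
    have hwb := (zc_comm hw (hTP s.bT)).symm
    rcases s.wOf_cases hG (hCW w hwz hwa) with e | e | e | e
    · exact Or.inl e
    · exact Or.inr e
    · exact absurd (e ▸ hwb) s.nc
    · exfalso
      rw [e, mul_assoc, ← s.z_comm hG s.bT, ← mul_assoc, ← mul_assoc] at hwb
      exact s.nc (mul_right_cancel hwb)
  have hne : (P : Subgroup G) ≠ ⊥ := fun e => s.z1 (Subgroup.mem_bot.1 (e ▸ hTP s.zT))
  obtain ⟨w, hw, -, hw1⟩ := exists_mem_zc P.2 le_rfl Subgroup.le_normalizer hne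
  obtain rfl : w = z := (hzcW w hw).resolve_left hw1
  refine ⟨?_, ?_⟩
  · have hle : zc (P : Subgroup G) = Subgroup.zpowers w := le_antisymm (fun x hx => by
      rcases hzcW x hx with rfl | rfl
      · exact one_mem _
      · exact Subgroup.mem_zpowers _) (Subgroup.zpowers_le.2 hw)
    rw [hle, Nat.card_zpowers, orderOf_eq_prime (by rw [pow_two]; exact s.zz) s.z1]
  have hzcen : ∀ g ∈ (P : Subgroup G), g * w = w * g := fun g hg => zc_comm hw hg
  by_cases hfour : ∃ E : Subgroup ↥(P : Subgroup G),
      E.Normal ∧ IsElementaryAbelian 2 E ∧ Nat.card ↥E = 2 ^ 2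
  · -- then `P = T`
    suffices hPL : (P : Subgroup G) ≤ L by
      have hPT : (P : Subgroup G) = T :=
        le_antisymm (relIndex_sylow_eq_one s.pair.left.mem.1 hTP hPL P.2) hTP
      refine dihedral_of_generators s.orderOf_a s.symm.orderOf_a ?_ (by rw [s.orderOf_ab hG]; norm_num)
      rw [hPT]
      exact Subgroup.eq_of_le_of_card_ge s.closure_le
        (by rw [s.card_closure hG, s.pair.card_T hG, h1])
    obtain ⟨E, hEn, hEe, hEc⟩ := hfour
    set U := E.map (P : Subgroup G).subtype with hU
    have hUc : Nat.card ↥U = 4 := by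
      rw [hU, Subgroup.card_map_of_injective (P : Subgroup G).subtype_injective, hEc]; norm_num
    have hUe : IsElementaryAbelian 2 U := PGroups.elemAb_map _ hEe
    have hUP : U ≤ (P : Subgroup G) := Subgroup.map_subtype_le E
    have hUn : (P : Subgroup G) ≤ Subgroup.normalizer (U : Set G) := by
      intro g hg
      rw [Subgroup.mem_normalizer_iff_map_conj_eq]
      refine Subgroup.eq_of_le_of_card_ge ?_
        (Subgroup.card_map_of_injective (MulAut.conj g).injective).ge
      rintro _ ⟨_, ⟨u, hu, rfl⟩, rfl⟩
      exact ⟨_, hEn.conj_mem u hu ⟨g, hg⟩, rfl⟩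
    have hU1 : U ≠ ⊥ := fun e => by rw [e, Subgroup.card_bot] at hUc; omega
    obtain ⟨w', hw', hw'U, hw'1⟩ := exists_mem_zc P.2 hUP hUn hU1
    obtain rfl : w' = w := (hzcW w' hw').resolve_left hw'1
    by_cases haU : ∀ u ∈ U, a * u = u * a
    · have hUW : U = W := Subgroup.eq_of_le_of_card_ge
        (fun u hu => hCW u (hzcen u (hUP hu)) (haU u hu).symm) (by rw [hUc, s.card_wOf])
      intro g hg
      have := hUn hg
      rwa [hUW, hW, normalizer_wOf_eq s.pair hG] at this
    push Not at haU
    obtain ⟨t, ht, hat⟩ := haU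
    have ht1 : t ≠ 1 := fun e => hat (by rw [e]; simp)
    have htw : t ≠ w' := fun e => hat (e ▸ hzcen a haP)
    have htt : t * t = 1 := by rw [← pow_two]; exact hUe.2 t ht
    have hfix : ∀ g ∈ (P : Subgroup G), g * t * g⁻¹ = t ∨ g * t * g⁻¹ = t * w' := fun g hg =>
      conj_cases hUc hw'U hw'1 ht ht1 htw (hUn hg) (conj_eq_of_comm (hzcen g hg).symm)
    have hata : a * t * a = t * w' := by
      conv_lhs => arg 2; rw [← inv_eq_of_mul_eq_one_right s.aa]
      exact (hfix a haP).resolve_left fun e => hat (mul_inv_eq_iff_eq_mul.1 e)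
    -- `C_P(t) = U`
    have hK2 : ∀ k ∈ (P : Subgroup G), k * t = t * k → k ∈ U := by
      intro k hk hkt
      have haka : a * k * a * t = t * (a * k * a) := by
        have e0 : k * (t * w') = t * w' * k :=
          ((show Commute k t from hkt).mul_right (hzcen k hk)).eq
        calc a * k * a * t = a * k * (a * t * a) * a := by
              rw [show a * k * (a * t * a) * a = a * k * a * t * (a * a) by group, s.aa, mul_one]
          _ = a * (t * w' * k) * a := by rw [hata, mul_assoc a k (t * w'), e0]
          _ = a * (a * t * a * k) * a := by rw [hata]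
          _ = (a * a) * t * (a * k * a) := by group
          _ = t * (a * k * a) := by rw [s.aa, one_mul]
      set x := k⁻¹ * (a * k * a) with hx
      have hxP : x ∈ (P : Subgroup G) :=
        mul_mem (inv_mem hk) (mul_mem (mul_mem haP hk) haP)
      have hxt : Commute x t := (show Commute k t from hkt).inv_left.mul_left haka
      have hai : a⁻¹ = a := inv_eq_of_mul_eq_one_right s.aa
      have hxinv : a * x * a = x⁻¹ := by
        rw [hx, mul_inv_rev, mul_inv_rev, mul_inv_rev, inv_inv, hai]
        calc a * (k⁻¹ * (a * k * a)) * a = a * k⁻¹ * a * k * (a * a) := by group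
          _ = a * (k⁻¹ * a) * k := by rw [s.aa, mul_one]; group
      have hA : ∀ m ∈ (P : Subgroup G), a * m * a = m → m * t = t * m → m = 1 ∨ m = w' := by
        intro m hm hma hmt
        have hma' : m * a = a * m := by
          calc m * a = a * m * a * a := by rw [hma]
            _ = a * m * (a * a) := by group
            _ = a * m := by rw [s.aa, mul_one]
        rcases s.wOf_cases hG (hCW m (hzcen m hm) hma') with e | e | e | e
        · exact Or.inl e
        · exact Or.inr e
        · exact absurd (e ▸ hmt) hat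
        · exfalso
          rw [e, mul_assoc, ← hzcen t (hUP ht), ← mul_assoc, ← mul_assoc] at hmt
          exact hat (mul_right_cancel hmt)
      have hx2 : x * x = 1 := by
        by_contra hne2
        obtain ⟨i, hy2, hy4⟩ := exists_order_four hxP hne2
        set y := x ^ i with hy
        have hyt : Commute y t := hxt.pow_left i
        have hyP : y ∈ (P : Subgroup G) := pow_mem hxP i
        have hyinv : a * y * a = y⁻¹ := by
          have := conj_pow (i := i) (a := a) (b := x)
          rw [hai, hxinv, inv_pow] at this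
          exact this.symm
        have hyy : y * y = w' := by
          refine (hA _ (mul_mem hyP hyP) ?_ (hyt.mul_left hyt).eq).resolve_left hy2
          calc a * (y * y) * a = a * y * (a * a) * y * a := by rw [s.aa]; group
            _ = (a * y * a) * (a * y * a) := by group
            _ = (y * y)⁻¹ := by rw [hyinv, mul_inv_rev]
            _ = y * y := inv_eq_of_mul_eq_one_right hy4
        have hyi : y⁻¹ = y * w' := by
          rw [← hyy]
          refine inv_eq_of_mul_eq_one_right ?_
          rw [← hy4]; group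
        have hfix2 : a * (y * t) * a = y * t := by
          calc a * (y * t) * a = a * y * (a * a) * t * a := by rw [s.aa]; group
            _ = (a * y * a) * (a * t * a) := by group
            _ = y * (w' * t) * w' := by rw [hyinv, hata, hyi]; group
            _ = y * t * (w' * w') := by rw [← hzcen t (hUP ht)]; group
            _ = y * t := by rw [s.zz, mul_one]
        have h2 : y * t * (y * t) = 1 := by
          rcases hA _ (mul_mem hyP (hUP ht)) hfix2 (hyt.mul_left (Commute.refl t)).eq with e | e <;>
            rw [e]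
          · exact one_mul 1
          · exact s.zz
        rw [show y * t * (y * t) = y * (t * y) * t by group, ← hyt.eq,
          show y * (y * t) * t = y * y * (t * t) by group, htt, mul_one, hyy] at h2
        exact s.z1 h2
      rcases hA x hxP (hxinv.trans (inv_eq_of_mul_eq_one_right hx2)) hxt.eq with e | e
      · rw [hx, inv_mul_eq_one] at e
        rcases hA k hk e.symm hkt with r | r <;> rw [r]
        · exact one_mem _
        · exact hw'U
      · rw [hx, inv_mul_eq_iff_eq_mul] at e
        have hkta : a * (k * t) * a = k * t := by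
          calc a * (k * t) * a = a * k * (a * a) * t * a := by rw [s.aa]; group
            _ = (a * k * a) * (a * t * a) := by group
            _ = k * (w' * t) * w' := by rw [e, hata]; group
            _ = k * t * (w' * w') := by rw [← hzcen t (hUP ht)]; group
            _ = k * t := by rw [s.zz, mul_one]
        have hkm : k * t ∈ U := by
          rcases hA _ (mul_mem hk (hUP ht)) hkta
            ((show Commute k t from hkt).mul_left (Commute.refl t)).eq with r | r <;> rw [r]
          · exact one_mem _
          · exact hw'U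
        have := mul_mem hkm ht
        rwa [mul_assoc, htt, mul_one] at this
    -- `U` normalizes `W`
    have htW : t ∈ Subgroup.normalizer (Cfsg.wOf K : Set G) := by
      rw [Subgroup.mem_normalizer_iff_map_conj_eq]
      refine Subgroup.eq_of_le_of_card_ge ?_
        (Subgroup.card_map_of_injective (MulAut.conj t).injective).ge
      have hti : t⁻¹ = t := inv_eq_of_mul_eq_one_right htt
      have ha' : t * a * t⁻¹ = a * w' := by
        calc t * a * t⁻¹ = (a * a) * t * a * t := by rw [hti, s.aa, one_mul]
          _ = a * (a * t * a) * t := by group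
          _ = a * (t * (w' * t)) := by rw [hata]; group
          _ = a * (t * (t * w')) := by rw [hzcen t (hUP ht)]
          _ = a * ((t * t) * w') := by group
          _ = a * w' := by rw [htt, one_mul]
      have hw'' : t * w' * t⁻¹ = w' := conj_eq_of_comm (hzcen t (hUP ht)).symm
      rintro _ ⟨v, hv, rfl⟩
      show t * v * t⁻¹ ∈ Cfsg.wOf K
      rcases s.wOf_cases hG hv with e | e | e | e <;> rw [e]
      · rw [mul_one, mul_inv_cancel]; exact one_mem _
      · rw [hw'']; exact s.zw.2
      · rw [ha']; exact mul_mem s.aw s.zw.2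
      · rw [show t * (a * w') * t⁻¹ = t * a * t⁻¹ * (t * w' * t⁻¹) by group, ha', hw'', mul_assoc,
          s.zz, mul_one]
        exact s.aw
    have hUN : ∀ u ∈ U, u ∈ L := by
      intro u hu
      rcases four_cases hUc hw'U hw'1 s.zz ht ht1 htw hu with e | e | e | e
      all_goals rw [e]
      · exact one_mem _
      · exact s.pair.left.mem.1.1 s.zT
      all_goals rw [← normalizer_wOf_eq s.pair hG]
      · exact htW
      · refine mul_mem ?_ (Subgroup.le_normalizer s.zw.2)
        exact htW
    intro g hg
    rcases hfix g hg with e | e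
    · exact hUN _ (hK2 g hg (mul_inv_eq_iff_eq_mul.1 e))
    · have h2 : g * a * t = t * (g * a) := by
        calc g * a * t = g * (a * t * a) * a := by
              rw [show g * (a * t * a) * a = g * a * t * (a * a) by group, s.aa, mul_one]
          _ = g * t * g⁻¹ * (g * w') * a := by rw [hata]; group
          _ = t * w' * (w' * g) * a := by rw [e, hzcen g hg]
          _ = t * (w' * w') * (g * a) := by group
          _ = t * (g * a) := by rw [s.zz, mul_one]
      have := mul_mem (hUN _ (hK2 _ (mul_mem hg haP) h2)) (s.pair.left.mem.1.1 s.aT)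
      rwa [mul_assoc, s.aa, mul_one] at this
  · -- no normal four subgroup
    have hac : (⟨a, haP⟩ : ↥(P : Subgroup G)) ∉ Subgroup.center ↥(P : Subgroup G) := fun hc =>
      s.nc (congrArg Subtype.val (Subgroup.mem_center_iff.1 hc ⟨b, hTP s.bT⟩)).symm
    obtain ⟨x, n, hn, hxo, haA, hcard, hall, hact⟩ :=
      HalfTransitive.dihedral_or_semidihedral P.2 hfour (t := ⟨a, haP⟩) (Subtype.ext s.aa) hac
    set t : ↥(P : Subgroup G) := ⟨a, haP⟩ with htdef
    have htt : t * t = 1 := Subtype.ext s.aa
    have hto : orderOf t = 2 :=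
      orderOf_eq_prime (by rw [pow_two]; exact htt) (fun e => s.a1 (congrArg Subtype.val e))
    rcases hact with e | ⟨hn2, e⟩
    · have hxt2 : x * t * (x * t) = 1 := by
        calc x * t * (x * t) = x * (t * x * t⁻¹) * (t * t) := by group
          _ = 1 := by rw [e, htt]; group
      have hxt1 : x * t ≠ 1 := fun h => haA (by
        rw [eq_inv_of_mul_eq_one_right h]; exact inv_mem (Subgroup.mem_zpowers x))
      have htop : Subgroup.closure ({x * t, t} : Set ↥(P : Subgroup G)) = ⊤ := by
        rw [eq_top_iff]
        intro g _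
        have htm : t ∈ Subgroup.closure ({x * t, t} : Set ↥(P : Subgroup G)) :=
          Subgroup.subset_closure (Or.inr rfl)
        have hxm : x ∈ Subgroup.closure ({x * t, t} : Set ↥(P : Subgroup G)) := by
          have := mul_mem (Subgroup.subset_closure (Or.inl rfl) :
            x * t ∈ Subgroup.closure ({x * t, t} : Set ↥(P : Subgroup G))) htm
          rwa [mul_assoc, htt, mul_one] at this
        rcases hall g with h | h
        · exact (Subgroup.zpowers_le.2 hxm) h
        · have := mul_mem ((Subgroup.zpowers_le.2 hxm) h) htm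
          rwa [mul_assoc, htt, mul_one] at this
      refine Or.inl ⟨orderOf (x * t * t), ?_, ⟨(Subgroup.topEquiv.symm.trans
        (MulEquiv.subgroupCongr htop.symm)).trans (Involutions.Basic.closurePairEquiv
          (orderOf_eq_prime (by rw [pow_two]; exact hxt2) hxt1) hto)⟩⟩
      rw [mul_assoc, htt, mul_one, hxo, pow_succ]
      have : 0 < 2 ^ n := by positivity
      omega
    · refine Or.inr ⟨n + 1, by omega, hcard, x, t, hxo, hto, ?_⟩
      rw [e, Nat.add_sub_cancel, ← zpow_natCast, Nat.cast_sub (Nat.one_le_two_pow)]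
      push_cast
      rfl

/-- The conclusion in the case `L ≅ S₄ × 2` with `T` a Sylow subgroup. -/
theorem Shape2.case_sylow (s : Shape2 T K L K' L' z a b c) (hG : ZNHyp G) :
    (∀ g : G, g * c * g⁻¹ ∉ Subgroup.closure ({a, b} : Set G)) ↔
      ∀ g : G, g * z * g⁻¹ ≠ c := by
  constructor
  · intro h g e
    refine h g⁻¹ ?_
    rw [← e, show g⁻¹ * (g * z * g⁻¹) * g⁻¹⁻¹ = z by group, ← s.ab_sq hG]
    exact mul_mem (mul_mem (Subgroup.subset_closure (Or.inl rfl)) (Subgroup.subset_closure (Or.inr rfl)))
      (mul_mem (Subgroup.subset_closure (Or.inl rfl)) (Subgroup.subset_closure (Or.inr rfl)))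
  · intro h g hg
    obtain ⟨k, hk⟩ := s.toShape.conj_z_of_mem hG hg
      (by rw [show g * c * g⁻¹ * (g * c * g⁻¹) = g * (c * c) * g⁻¹ by group, s.c2]; group)
      (fun e => s.c1 (conj_eq_one_iff.1 e))
    refine h (g⁻¹ * k) ?_
    rw [show g⁻¹ * k * z * (g⁻¹ * k)⁻¹ = g⁻¹ * (k * z * k⁻¹) * g by group, hk]
    group

end Cfsg.Agent.Lib.SolvCent.Locals
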