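import Cfsg.Agent.Lib.SolvCent.Setup
import Cfsg.Agent.Lib.Signalizer.Complete
import Cfsg.Agent.Lib.Coprime.Generation

/-!
# The core functor on elementary abelian subgroups of order at least eight

Owner: helper2. Namespace `Cfsg.Agent.Lib.SolvCent`.
-/

set_option autoImplicit false
set_option linter.style.haveILetI false

open Cfsg

namespace Cfsg.Agent.Lib.SolvCent

variable {G : Type*} [Group G]

/-- The subgroup generated by the cores attached to `E`. -/
abbrev wsup (E : Subgroup G) : Subgroup G := Balance.valueSup (fun a => cr a) E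

theorem wsup_mono {E F : Subgroup G} (h : E ≤ F) : wsup E ≤ wsup F :=
  iSup_le fun e => le_iSup (fun a : {a : G // a ∈ F ∧ a ≠ 1} => cr (a : G)) ⟨e, h e.2.1, e.2.2⟩

theorem cr_le_wsup {E : Subgroup G} {a : G} (ha : a ∈ E) (ha1 : a ≠ 1) : cr a ≤ wsup E :=
  le_iSup (fun a : {a : G // a ∈ E ∧ a ≠ 1} => cr (a : G)) ⟨a, ha, ha1⟩

theorem wsup_map (E : Subgroup G) (g : G) :
    wsup (E.map (MulAut.conj g).toMonoidHom) = (wsup E).map (MulAut.conj g).toMonoidHom := by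
  refine le_antisymm (iSup_le ?_) ?_
  · rintro ⟨x, ⟨a, ha, rfl⟩, hx1⟩
    show cr (g * a * g⁻¹) ≤ _
    rw [cr_conj]
    exact Subgroup.map_mono (cr_le_wsup ha (fun h => hx1 (by simp [h])))
  · rw [wsup, Balance.valueSup, Subgroup.map_iSup]
    refine iSup_le fun a => ?_
    rw [show ((cr (a : G)).map (MulAut.conj g).toMonoidHom) = cr (g * a * g⁻¹) from
      (cr_conj g a).symm]
    exact cr_le_wsup ⟨a, a.2.1, rfl⟩ (fun h => a.2.2 (by simpa using h))

variable [Finite G]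

theorem wsup_spec (hyp : Hyp G) {E : Subgroup G} (hE : IsElementaryAbelian 2 E)
    (h8 : 8 ≤ Nat.card ↥E) :
    ¬ 2 ∣ Nat.card ↥(wsup E) ∧
      ∀ a ∈ E, a ≠ 1 → wsup E ⊓ Subgroup.centralizer ({a} : Set G) = cr a := by
  haveI : Fact (Nat.Prime 2) := ⟨Nat.prime_two⟩
  have ho : ∀ a ∈ E, a ≠ 1 → orderOf a = 2 := fun a ha ha1 => PGroups.elemAb_orderOf hE ha ha1
  have hθ : IsSolvableSignalizerFunctor 2 E (fun a : G => cr a) := by
    refine ⟨⟨fun a _ _ => cr_le a, fun a _ _ => cr_odd a, fun a ha _ b hb x hx => ?_,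
      fun a ha ha1 b hb hb1 => cr_balance hyp (ho a ha ha1) (ho b hb hb1)
        (PGroups.elemAb_comm hE ha hb)⟩, fun a ha ha1 => cr_isSolvable hyp (ho a ha ha1)⟩
    exact (Subgroup.mem_normalizer_iff.1 (cr_normalized (PGroups.elemAb_comm hE hb ha)) x).1 hx
  obtain ⟨hm, heq⟩ := Signalizer.Completes.closure hE (by norm_num; exact h8) hθ.1
    (Signalizer.completes hE (by norm_num; exact h8) hθ)
  exact ⟨hm.2.1, heq⟩

omit [Finite G] in
theorem le_normalizer_wsup (E : Subgroup G) :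
    E ≤ Subgroup.normalizer (wsup E : Set G) := by
  intro e he
  rw [Subgroup.mem_normalizer_iff_map_conj_eq]
  refine (wsup_map E e).symm.trans ?_
  congr 1
  exact Subgroup.mem_normalizer_iff_map_conj_eq.1 (Subgroup.le_normalizer he)

/-- A noncyclic subgroup of a large elementary abelian subgroup gives the same closure. -/
theorem wsup_eq (hyp : Hyp G) {E B : Subgroup G} (hB : IsElementaryAbelian 2 B)
    (h8 : 8 ≤ Nat.card ↥B) (hEB : E ≤ B) (h4 : 4 ≤ Nat.card ↥E) : wsup E = wsup B := by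
  haveI : Fact (Nat.Prime 2) := ⟨Nat.prime_two⟩
  refine le_antisymm (wsup_mono hEB) ?_
  obtain ⟨hW, hWC⟩ := wsup_spec hyp hB h8
  have hE := PGroups.elemAb_mono hB hEB
  haveI := hE.1
  have hncyc : ¬ IsCyclic ↥E := fun hcyc => by
    have := Nat.le_of_dvd (by norm_num) (PGroups.elemAb_card_dvd_of_isCyclic hE)
    omega
  have hcop : (Nat.card ↥E).Coprime (Nat.card ↥(wsup B)) := by
    obtain ⟨m, hm⟩ := IsPGroup.iff_card.1 (PGroups.elemAb_isPGroup hE)
    rw [hm]; exact (Nat.prime_two.coprime_iff_not_dvd.2 hW).pow_left m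
  rw [← Coprime.iSup_centralizer_eq hncyc (hEB.trans (le_normalizer_wsup B)) hcop]
  refine iSup₂_le fun e he => ?_
  rw [hWC e (hEB he.1) he.2]
  exact cr_le_wsup he.1 he.2

/-- Closures of `E` and of a subgroup `U` commuting with a noncyclic part `F` of `E`. -/
theorem wsup_linked (hyp : Hyp G) {E F U : Subgroup G} (hE : IsElementaryAbelian 2 E)
    (h8 : 8 ≤ Nat.card ↥E) (hF : F ≤ E) (h4 : 4 ≤ Nat.card ↥F) (hU : IsElementaryAbelian 2 U)
    (hU4 : 4 ≤ Nat.card ↥U) (hcomm : ∀ f ∈ F, ∀ u ∈ U, f * u = u * f) :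
    wsup E = wsup U ∧
      ∃ B, IsElementaryAbelian 2 B ∧ 8 ≤ Nat.card ↥B ∧ U ≤ B ∧ (F ≤ B) ∧ B ≤ E ⊔ U := by
  have hFU : IsElementaryAbelian 2 (F ⊔ U) :=
    PGroups.elemAb_sup (PGroups.elemAb_mono hE hF) hU hcomm
  rcases eq_or_lt_of_le (le_sup_left : F ≤ F ⊔ U) with h | h
  · have hUE : U ≤ E := (le_sup_right.trans h.ge).trans hF
    exact ⟨(wsup_eq hyp hE h8 hUE hU4).symm, E, hE, h8, hUE, hF, le_sup_left⟩
  · have h8' := eight_le hFU h h4
    exact ⟨by rw [← wsup_eq hyp hE h8 hF h4, wsup_eq hyp hFU h8' le_sup_left h4,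
      wsup_eq hyp hFU h8' le_sup_right hU4], _, hFU, h8', le_sup_right, le_sup_left,
      sup_le_sup_right hF U⟩

/-! ### The case `|Ω₁(Z(S))| ≥ 4` -/

theorem exists_big_mem {S : Subgroup G} (h4 : 4 ≤ Nat.card ↥(zc S)) (hbig : ∃ E, Big S E)
    {u : G} (hu : u ∈ S) (hu2 : u ^ 2 = 1) : ∃ E, Big S E ∧ u ∈ E := by
  by_cases huZ : u ∈ zc S
  · obtain ⟨E, hE, hES, h8⟩ := hbig
    refine ⟨E ⊔ zc S, ⟨?_, sup_le hES (zc_le S), h8.trans (Subgroup.card_le_of_le le_sup_left)⟩,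
      Subgroup.mem_sup_right huZ⟩
    exact PGroups.elemAb_sup hE (elemAb_zc S) fun e he z hz => zc_comm hz (hES he)
  · have hB : IsElementaryAbelian 2 (zc S ⊔ Subgroup.zpowers u) :=
      elemAb_sup_zpowers (elemAb_zc S) hu2 fun z hz => (zc_comm hz hu).symm
    refine ⟨_, ⟨hB, sup_le (zc_le S) (Subgroup.zpowers_le.2 hu),
      eight_le hB (lt_of_le_of_ne le_sup_left fun h => huZ ?_) h4⟩,
      Subgroup.mem_sup_right (Subgroup.mem_zpowers u)⟩
    rw [h]; exact Subgroup.mem_sup_right (Subgroup.mem_zpowers u)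

theorem wsup_eq_zc (hyp : Hyp G) {S : Subgroup G} (h4 : 4 ≤ Nat.card ↥(zc S)) {E : Subgroup G}
    (hE : Big S E) : wsup E = wsup (zc S) :=
  (wsup_linked hyp hE.1 hE.2.2 le_rfl (le_trans (by norm_num) hE.2.2) (elemAb_zc S) h4
    fun _ he _ hz => zc_comm hz (hE.2.1 he)).1

omit [Finite G] in
theorem big_map {S E : Subgroup G} (hE : Big S E) (g : G) :
    Big (S.map (MulAut.conj g).toMonoidHom) (E.map (MulAut.conj g).toMonoidHom) :=
  ⟨PGroups.elemAb_conj g hE.1, Subgroup.map_mono hE.2.1, by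
    rw [Subgroup.card_map_of_injective (MulAut.conj g).injective]; exact hE.2.2⟩

/-- Two large elementary subgroups in one Sylow subgroup have the same closure. -/
theorem wsup_eq_of_sylow (hyp : Hyp G) (S P : Sylow 2 G)
    (h4 : 4 ≤ Nat.card ↥(zc (S : Subgroup G))) {E E' : Subgroup G}
    (hE : Big (P : Subgroup G) E) (hE' : Big (P : Subgroup G) E') : wsup E = wsup E' := by
  have h4' : 4 ≤ Nat.card ↥(zc (P : Subgroup G)) := by rwa [card_zc_eq P S]
  rw [wsup_eq_zc hyp h4' hE, wsup_eq_zc hyp h4' hE']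

/-- Two `2`-subgroups of a subgroup are conjugate into a common Sylow subgroup. -/
theorem exists_conj_sylow {C A B : Subgroup G} (hA : IsPGroup 2 ↥A) (hB : IsPGroup 2 ↥B)
    (hAC : A ≤ C) (hBC : B ≤ C) :
    ∃ c ∈ C, ∃ P : Sylow 2 G, A.map (MulAut.conj c).toMonoidHom ≤ (P : Subgroup G) ∧
      B ≤ (P : Subgroup G) := by
  haveI : Fact (Nat.Prime 2) := ⟨Nat.prime_two⟩
  obtain ⟨PA, hPA⟩ := (hA.comap_of_injective C.subtype C.subtype_injective).exists_le_sylow
  obtain ⟨PB, hPB⟩ := (hB.comap_of_injective C.subtype C.subtype_injective).exists_le_sylow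
  obtain ⟨c, hc⟩ := MulAction.exists_smul_eq ↥C PA PB
  obtain ⟨P, hP⟩ := (PB.2.map C.subtype).exists_le_sylow
  refine ⟨c, c.2, P, ?_, fun b hb => hP ⟨⟨b, hBC hb⟩, hPB hb, rfl⟩⟩
  rintro _ ⟨a, ha, rfl⟩
  refine hP ⟨c * ⟨a, hAC ha⟩ * c⁻¹, ?_, rfl⟩
  rw [← hc]
  exact ⟨⟨a, hAC ha⟩, hPA ha, rfl⟩

theorem normalizer_sylow_le (hyp : Hyp G) (S P : Sylow 2 G)
    (h4 : 4 ≤ Nat.card ↥(zc (S : Subgroup G))) {E : Subgroup G} (hE : Big (P : Subgroup G) E) :
    Subgroup.normalizer ((P : Subgroup G) : Set G) ≤ Subgroup.normalizer (wsup E : Set G) := by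
  intro g hg
  rw [Subgroup.mem_normalizer_iff_map_conj_eq] at hg ⊢
  refine (wsup_map E g).symm.trans ?_
  have h1 := big_map hE g
  rw [show (P : Subgroup G).map (MulAut.conj g).toMonoidHom = P from hg] at h1
  exact wsup_eq_of_sylow hyp S P h4 h1 hE

theorem normalizer_zc_le (hyp : Hyp G) (P : Sylow 2 G) :
    Subgroup.normalizer (zc (P : Subgroup G) : Set G) ≤
      Subgroup.normalizer ((P : Subgroup G) : Set G) := by
  intro g hg
  rw [Subgroup.mem_normalizer_iff_map_conj_eq] at hg ⊢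
  refine Subgroup.eq_of_le_of_card_ge ?_
    (Subgroup.card_map_of_injective (MulAut.conj g).injective).ge
  refine le_of_le_normalizer P (P.2.map _) (le_trans ?_ (hyp.cz P))
  intro x hx
  refine Subgroup.mem_centralizer_iff.2 fun z hz => ?_
  rw [← hg] at hz
  obtain ⟨y, hy, rfl⟩ := hz
  obtain ⟨w, hw, rfl⟩ := hx
  show (MulAut.conj g) y * (MulAut.conj g) w = (MulAut.conj g) w * (MulAut.conj g) y
  rw [← map_mul, ← map_mul, zc_comm hy hw]

theorem centralizer_le_normalizer_wsup (hyp : Hyp G) (S : Sylow 2 G)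
    (h4 : 4 ≤ Nat.card ↥(zc (S : Subgroup G))) (hbig : ∃ E, Big (S : Subgroup G) E) {u : G}
    (hu : u ∈ (S : Subgroup G)) (huo : orderOf u = 2) :
    Subgroup.centralizer ({u} : Set G) ≤
      Subgroup.normalizer (wsup (zc (S : Subgroup G)) : Set G) := by
  haveI : Fact (Nat.Prime 2) := ⟨Nat.prime_two⟩
  have hu2 : u ^ 2 = 1 := huo ▸ pow_orderOf_eq_one u
  have hu1 : u ≠ 1 := fun h => by rw [h, orderOf_one] at huo; norm_num at huo
  obtain ⟨E, hEb, huE⟩ := exists_big_mem h4 hbig hu hu2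
  have hWE := wsup_eq_zc hyp h4 hEb
  obtain ⟨hE, hES, h8⟩ := hEb
  set C := Subgroup.centralizer ({u} : Set G) with hC
  set W := wsup (zc (S : Subgroup G)) with hW
  have hEC : E ≤ C := fun e he => mem_cent_iff.2 (PGroups.elemAb_comm hE he huE)
  haveI : Group.IsSolvable ↥C := hyp.solv u huo
  obtain ⟨T, hT⟩ :=
    ((PGroups.elemAb_isPGroup hE).comap_of_injective C.subtype C.subtype_injective).exists_le_sylow
  obtain ⟨P, hTP⟩ := (T.2.map C.subtype).exists_le_sylow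
  have hEP : E ≤ (P : Subgroup G) := fun e he => hTP ⟨⟨e, hEC he⟩, hT he, rfl⟩
  have hbP : Big (P : Subgroup G) E := ⟨hE, hEP, h8⟩
  have hWP : ∀ E', Big (P : Subgroup G) E' → wsup E' = W := fun E' hE' =>
    (wsup_eq_of_sylow hyp S P h4 hE' hbP).trans hWE
  have huP : u ∈ (P : Subgroup G) := hEP huE
  set O := pPrimeCore 2 ↥C with hO
  set π := QuotientGroup.mk' O with hπ
  set Y := (pCore 2 (↥C ⧸ O)).comap π with hY
  haveI : Y.Normal := Subgroup.normal_comap _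
  obtain ⟨Q, hQ⟩ := Balance.exists_sylow_inf_normal T Y
  set Q0 := (T : Subgroup ↥C) ⊓ Y with hQ0
  have hQmap : (Q : Subgroup ↥Y).map Y.subtype = Q0 := by
    rw [hQ, Subgroup.subgroupOf_map_subtype]
  have hOY : O ≤ Y := fun x hx => by
    show π x ∈ pCore 2 (↥C ⧸ O)
    rw [show π x = 1 from (QuotientGroup.eq_one_iff x).2 hx]; exact one_mem _
  have hYeq : Y ≤ O ⊔ Q0 := by
    rw [← Subgroup.relIndex_eq_one]
    have h1 : (O ⊔ Q0).relIndex Y ∣ O.relIndex Y := Subgroup.relIndex_dvd_of_le_left (L := Y) le_sup_left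
    have h2 : (O ⊔ Q0).relIndex Y ∣ Q0.relIndex Y := Subgroup.relIndex_dvd_of_le_left (L := Y) le_sup_right
    have h3 : O.relIndex Y = Nat.card ↥(pCore 2 (↥C ⧸ O)) := by
      have hk := Subgroup.relIndex_ker (K := Y) π
      rwa [hπ, QuotientGroup.ker_mk', hY,
        Subgroup.map_comap_eq_self_of_surjective (QuotientGroup.mk'_surjective O)] at hk
    obtain ⟨m, hm⟩ := IsPGroup.iff_card.1 (Cores.pCore_isPGroup (G := ↥C ⧸ O) 2)
    have h4 : ¬ 2 ∣ Q0.relIndex Y := by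
      rw [hQ0, Subgroup.relIndex, Subgroup.inf_subgroupOf_right, ← hQ]
      exact Q.not_dvd_index
    refine Nat.eq_one_of_dvd_coprimes ((Nat.prime_two.coprime_iff_not_dvd.2 h4).pow_left m) ?_ h2
    rw [← hm, ← h3]; exact h1
  have hfr : Subgroup.normalizer (Q0 : Set ↥C) ⊔ O = ⊤ := by
    have h1 := Sylow.normalizer_sup_eq_top Q
    rw [hQmap] at h1
    rw [eq_top_iff, ← h1]
    exact sup_le le_sup_left (hYeq.trans (sup_le le_sup_right
      (Subgroup.le_normalizer.trans le_sup_left)))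
  have hcent : ∀ x ∈ (T : Subgroup ↥C), (∀ q ∈ Q0, q * x = x * q) → x ∈ Q0 := by
    intro x hx hxc
    refine ⟨hx, ?_⟩
    show π x ∈ pCore 2 (↥C ⧸ O)
    haveI : Group.IsSolvable (↥C ⧸ O) :=
      Group.isSolvable_of_surjective (QuotientGroup.mk'_surjective O)
    refine SylowInter.Basic.centralizer_pCore_le 2 (Cores.pPrimeCore_quotient_pPrimeCore 2)
      (Subgroup.mem_centralizer_iff.2 fun y hy => ?_)
    obtain ⟨y, rfl⟩ := QuotientGroup.mk'_surjective O y
    obtain ⟨o, ho, q, hq, rfl⟩ := Subgroup.mem_sup_of_normal_left.1 (hYeq (show y ∈ Y from hy))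
    have ho1 : π o = 1 := (QuotientGroup.eq_one_iff o).2 ho
    show π (o * q) * π x = π x * π (o * q)
    rw [map_mul, ho1, one_mul, ← map_mul, ← map_mul, hxc q hq]
  set Qg := Q0.map C.subtype with hQg
  have hQgP : Qg ≤ (P : Subgroup G) := (Subgroup.map_mono inf_le_left).trans hTP
  -- the normalizer part
  have hN : (Subgroup.normalizer (Q0 : Set ↥C)).map C.subtype ≤
      Subgroup.normalizer (W : Set G) := by
    rintro _ ⟨n, hn, rfl⟩
    have hnQ : Qg.map (MulAut.conj (n : G)).toMonoidHom = Qg := by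
      have hn' : Q0.map (MulAut.conj n).toMonoidHom = Q0 :=
        Subgroup.mem_normalizer_iff_map_conj_eq.1 hn
      rw [hQg]
      conv_rhs => rw [← hn']
      rw [Subgroup.map_map, Subgroup.map_map]
      rfl
    show (n : G) ∈ _
    by_cases hq : ∃ E1, Big Qg E1
    · obtain ⟨E1, h1⟩ := hq
      have h2 := big_map h1 (n : G)
      rw [hnQ] at h2
      have e1 := hWP E1 ⟨h1.1, h1.2.1.trans hQgP, h1.2.2⟩
      have e2 := hWP _ ⟨h2.1, h2.2.1.trans hQgP, h2.2.2⟩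
      rw [wsup_map, e1] at e2
      exact Subgroup.mem_normalizer_iff_map_conj_eq.2 e2
    · have h4P : 4 ≤ Nat.card ↥(zc (P : Subgroup G)) := by rwa [card_zc_eq P S]
      have hTeq : ∀ x ∈ (P : Subgroup G), (hx : x ∈ C) → (⟨x, hx⟩ : ↥C) ∈ (T : Subgroup ↥C) := by
        intro x hx hxC
        have hle : (T : Subgroup ↥C) ≤ (P : Subgroup G).subgroupOf C :=
          fun y hy => hTP ⟨y, hy, rfl⟩
        have := T.3 (P.2.comap_of_injective _ C.subtype_injective) hle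
        rw [← this]; exact hx
      have hZQ : zc (P : Subgroup G) ≤ Qg := by
        intro z hz
        have hzC : z ∈ C := mem_cent_iff.2 (zc_comm hz huP).symm
        exact ⟨⟨z, hzC⟩, hcent _ (hTeq z (zc_le _ hz) hzC) (fun q hq =>
          Subtype.ext (zc_comm hz (hQgP ⟨q, hq, rfl⟩))), rfl⟩
      have hinv : ∀ v ∈ Qg, v ^ 2 = 1 → v ∈ zc (P : Subgroup G) := fun v hv hv2 =>
        mem_of_no_big hq (elemAb_zc _) hZQ h4P hv hv2 fun z hz => (zc_comm hz (hQgP hv)).symm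
      refine normalizer_sylow_le hyp S P h4 hbP |>.trans (le_of_eq (by rw [hWE])) ?_
      refine normalizer_zc_le hyp P ?_
      rw [Subgroup.mem_normalizer_iff_map_conj_eq]
      refine Subgroup.eq_of_le_of_card_ge ?_
        (Subgroup.card_map_of_injective (MulAut.conj (n : G)).injective).ge
      rintro _ ⟨z, hz, rfl⟩
      refine hinv _ (hnQ ▸ ⟨z, hZQ hz, rfl⟩) ?_
      rw [← map_pow, (mem_zc.1 hz).2.2, map_one]
  have hcrW : cr u ≤ W := hWE ▸ cr_le_wsup huE hu1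
  intro g hg
  have := Subgroup.mem_top (⟨g, hg⟩ : ↥C)
  rw [← hfr] at this
  obtain ⟨n, hn, o, ho, he⟩ := Subgroup.mem_sup_of_normal_right.1 this
  have e : g = (n : G) * (o : G) := (congrArg Subtype.val he).symm
  rw [e]
  refine Subgroup.mul_mem _ (hN ⟨n, hn, rfl⟩) (Subgroup.le_normalizer (hcrW ?_))
  exact ⟨o, ho, rfl⟩

/-- The case `|Ω₁(Z(S))| ≥ 4` of 2-rank at least three. -/
theorem four_le_case (hyp : Hyp G) (S : Sylow 2 G)
    (h4 : 4 ≤ Nat.card ↥(zc (S : Subgroup G))) (hbig : ∃ E, Big (S : Subgroup G) E) :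
    (∀ u ∈ (S : Subgroup G), orderOf u = 2 → cr u = ⊥) ∨
      ∃ N : Subgroup ↥(pResidual 2 G), IsStronglyEmbedded N := by
  haveI : Fact (Nat.Prime 2) := ⟨Nat.prime_two⟩
  set W := wsup (zc (S : Subgroup G)) with hW
  have hmem : ∀ u ∈ (S : Subgroup G), orderOf u = 2 → ∃ E, Big (S : Subgroup G) E ∧ u ∈ E ∧
      wsup E = W ∧ u ≠ 1 := by
    intro u hu huo
    have hu1 : u ≠ 1 := fun h => by rw [h, orderOf_one] at huo; norm_num at huo
    obtain ⟨E, hE, huE⟩ := exists_big_mem h4 hbig hu (huo ▸ pow_orderOf_eq_one u)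
    exact ⟨E, hE, huE, wsup_eq_zc hyp h4 hE, hu1⟩
  by_cases hbot : W = ⊥
  · refine Or.inl fun u hu huo => ?_
    obtain ⟨E, hE, huE, hWE, hu1⟩ := hmem u hu huo
    exact le_bot_iff.1 (hbot ▸ hWE ▸ cr_le_wsup huE hu1)
  refine Or.inr (exists_stronglyEmbedded hyp S (Subgroup.normalizer (W : Set G)) ?_ ?_ ?_)
  · obtain ⟨E, hE⟩ := hbig
    rw [hW, ← wsup_eq_zc hyp h4 hE]
    exact Subgroup.le_normalizer.trans (normalizer_sylow_le hyp S S h4 hE)
  · intro h
    haveI : W.Normal := Subgroup.normalizer_eq_top_iff.1 h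
    obtain ⟨E, hE⟩ := hbig
    have hodd : ¬ 2 ∣ Nat.card ↥W := by
      rw [hW, ← wsup_eq_zc hyp h4 hE]; exact (wsup_spec hyp hE.1 hE.2.2).1
    exact hbot (le_bot_iff.1 (hyp.core ▸ Cores.le_pPrimeCore_of_not_dvd hodd))
  · intro u u' g hu _ huo hu' he
    obtain ⟨E, hE, huE, hWE, -⟩ := hmem u hu huo
    have hu'o : orderOf u' = 2 := by rw [← he, Involutions.Basic.orderOf_conj_eq]; exact huo
    obtain ⟨E2, hE2, huE2, hWE2, -⟩ := hmem u' hu' hu'o
    have hb := big_map hE g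
    obtain ⟨c, hc, P, hP1, hP2⟩ := exists_conj_sylow (C := Subgroup.centralizer ({u'} : Set G))
      (PGroups.elemAb_isPGroup hb.1) (PGroups.elemAb_isPGroup hE2.1)
      (fun x hx => mem_cent_iff.2 (PGroups.elemAb_comm hb.1 hx ⟨u, huE, he⟩))
      (fun x hx => mem_cent_iff.2 (PGroups.elemAb_comm hE2.1 hx huE2))
    have hb' := big_map hb c
    have h1 := wsup_eq_of_sylow hyp S P h4 (E := (E.map (MulAut.conj g).toMonoidHom).map
      (MulAut.conj c).toMonoidHom) (E' := E2) ⟨hb'.1, hP1, hb'.2.2⟩ ⟨hE2.1, hP2, hE2.2.2⟩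
    rw [wsup_map, wsup_map, hWE, hWE2] at h1
    have hcM : c ∈ Subgroup.normalizer (W : Set G) :=
      centralizer_le_normalizer_wsup hyp S h4 hbig hu' hu'o hc
    rw [Subgroup.mem_normalizer_iff_map_conj_eq] at hcM ⊢
    exact Subgroup.map_injective (MulAut.conj c).injective (h1.trans hcM.symm)

end Cfsg.Agent.Lib.SolvCent
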